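import Mathlib

/-!
Non-degenerate Hermitian forms on spaces over a finite field: adjoints, isotropic vectors, transvections and
Siegel maps.
-/

set_option autoImplicit false
set_option linter.style.haveILetI false

namespace Cfsg.Agent.H58.TensorUnit3

open Module

/-- A non-degenerate Hermitian form, linear in the first argument. -/
structure Herm (F : Type*) [Field F] (σ : F ≃+* F) (X : Type*) [AddCommGroup X] [Module F X] where
  B : X → X → F
  add_left : ∀ x y z, B (x + y) z = B x z + B y z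
  smul_left : ∀ (c : F) x z, B (c • x) z = c * B x z
  conj : ∀ x y, σ (B x y) = B y x
  nd : ∀ x, (∀ y, B x y = 0) → x = 0
  inv : ∀ a, σ (σ a) = a
  ne : ∃ a, σ a ≠ a
  norm : ∀ a, σ a = a → ∃ x, x * σ x = a

variable {F : Type*} [Field F] {σ : F ≃+* F} {X : Type*} [AddCommGroup X] [Module F X]

namespace Herm

variable (h : Herm F σ X)

/-- `x ↦ B x y`. -/
def lin (y : X) : X →ₗ[F] F where
  toFun x := h.B x y
  map_add' x x' := h.add_left x x' y
  map_smul' c x := h.smul_left c x y

theorem lin_apply (x y : X) : h.lin y x = h.B x y := rfl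

theorem add_right (z x y : X) : h.B z (x + y) = h.B z x + h.B z y := by
  rw [← h.conj (x + y), h.add_left, map_add, h.conj, h.conj]

theorem smul_right (c : F) (z x : X) : h.B z (c • x) = σ c * h.B z x := by
  rw [← h.conj (c • x), h.smul_left, map_mul, h.conj]

@[simp] theorem zero_left (y : X) : h.B 0 y = 0 := map_zero (h.lin y)

@[simp] theorem zero_right (x : X) : h.B x 0 = 0 := by rw [← h.conj, h.zero_left, map_zero]

theorem neg_left (x y : X) : h.B (-x) y = -h.B x y := map_neg (h.lin y) x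

theorem neg_right (x y : X) : h.B x (-y) = -h.B x y := by rw [← h.conj, h.neg_left, map_neg, h.conj]

theorem sub_left (x x' y : X) : h.B (x - x') y = h.B x y - h.B x' y := map_sub (h.lin y) x x'

theorem sub_right (x y y' : X) : h.B x (y - y') = h.B x y - h.B x y' := by
  rw [← h.conj, h.sub_left, map_sub, h.conj, h.conj]

theorem sum_left {κ : Type*} (s : Finset κ) (f : κ → X) (y : X) : h.B (∑ i ∈ s, f i) y = ∑ i ∈ s, h.B (f i) y :=
  map_sum (h.lin y) f s

theorem eq_zero_symm {x y : X} (hxy : h.B x y = 0) : h.B y x = 0 := by rw [← h.conj, hxy, map_zero]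

theorem eq_one_symm {x y : X} (hxy : h.B x y = 1) : h.B y x = 1 := by rw [← h.conj, hxy, map_one]

theorem nd_right {y : X} (hy : ∀ x, h.B x y = 0) : y = 0 := h.nd y fun x => h.eq_zero_symm (hy x)

theorem ext_left {x x' : X} (hxy : ∀ y, h.B x y = h.B x' y) : x = x' :=
  sub_eq_zero.1 (h.nd _ fun y => by rw [h.sub_left, hxy, sub_self])

theorem ext_right {y y' : X} (hxy : ∀ x, h.B x y = h.B x y') : y = y' :=
  sub_eq_zero.1 (h.nd_right fun x => by rw [h.sub_right, hxy, sub_self])

include h in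
theorem exists_skew : ∃ δ : F, δ ≠ 0 ∧ σ δ = -δ := by
  obtain ⟨a, ha⟩ := h.ne
  exact ⟨a - σ a, sub_ne_zero.2 (Ne.symm ha), by rw [map_sub, h.inv, neg_sub]⟩

include h in
theorem exists_trace (s : F) (hs : σ s = s) : ∃ t : F, t + σ t = s := by
  obtain ⟨t, ht⟩ : ∃ t : F, t + σ t ≠ 0 := by
    by_contra hc
    push Not at hc
    obtain ⟨a, ha⟩ := h.ne
    have h1 : (1 : F) + 1 = 0 := by simpa using hc 1
    exact ha (by linear_combination hc a - a * h1)
  refine ⟨s * t / (t + σ t), ?_⟩
  rw [map_div₀, map_mul, map_add, h.inv, hs, add_comm (σ t) t, ← add_div, ← mul_add, mul_div_assoc, div_self ht,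
    mul_one]

theorem self_real (x : X) : σ (h.B x x) = h.B x x := h.conj x x

/-- Every vector but zero pairs to one with some vector. -/
theorem exists_one {x : X} (hx : x ≠ 0) : ∃ y, h.B x y = 1 := by
  obtain ⟨y, hy⟩ := not_forall.1 fun hc => hx (h.nd x hc)
  exact ⟨σ (h.B x y)⁻¹ • y, by rw [h.smul_right, h.inv, inv_mul_cancel₀ hy]⟩

/-- An isotropic partner of an isotropic vector. -/
theorem exists_partner {c : X} (hc : c ≠ 0) (hcc : h.B c c = 0) : ∃ e, h.B e e = 0 ∧ h.B c e = 1 := by
  obtain ⟨y, hy⟩ := h.exists_one hc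
  obtain ⟨t, ht⟩ := h.exists_trace (-h.B y y) (by rw [map_neg, h.conj])
  refine ⟨y + t • c, ?_, by rw [h.add_right, h.smul_right, hy, hcc]; ring⟩
  rw [h.add_left, h.add_right, h.add_right, h.smul_left, h.smul_left, h.smul_right, h.smul_right, hy,
    h.eq_one_symm hy, hcc]
  linear_combination ht

theorem finrank_le_of_perp [FiniteDimensional F X] (U : Submodule F X) (c : X) :
    finrank F U ≤ finrank F (U ⊓ LinearMap.ker (h.lin c) : Submodule F X) + 1 := by
  have h1 := Submodule.finrank_sup_add_finrank_inf_eq U (LinearMap.ker (h.lin c))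
  have h2 := Submodule.finrank_le (U ⊔ LinearMap.ker (h.lin c))
  have h3 := LinearMap.finrank_range_add_finrank_ker (h.lin c)
  have h4 : finrank F (LinearMap.range (h.lin c)) ≤ 1 := (Submodule.finrank_le _).trans (by rw [finrank_self])
  omega

/-- A plane contains an isotropic vector. -/
theorem exists_iso_mem [FiniteDimensional F X] {U : Submodule F X} (hU : 2 ≤ finrank F U) :
    ∃ v ∈ U, v ≠ 0 ∧ h.B v v = 0 := by
  obtain ⟨x, hx, hx0⟩ := Submodule.exists_mem_ne_zero_of_ne_bot (p := U) (by rintro rfl; simp at hU)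
  by_cases hxx : h.B x x = 0
  · exact ⟨x, hx, hx0, hxx⟩
  have h1 := h.finrank_le_of_perp U x
  obtain ⟨y, ⟨hyU, hy⟩, hy0⟩ := Submodule.exists_mem_ne_zero_of_ne_bot
    (p := (U ⊓ LinearMap.ker (h.lin x) : Submodule F X)) (by
      intro he; rw [he, finrank_bot] at h1; omega)
  have hy' : h.B y x = 0 := hy
  by_cases hyy : h.B y y = 0
  · exact ⟨y, hyU, hy0, hyy⟩
  obtain ⟨l, hl⟩ := h.norm (-h.B x x / h.B y y) (by rw [map_div₀, map_neg, h.conj, h.conj])
  refine ⟨x + l • y, U.add_mem hx (U.smul_mem l hyU), fun h0 => hxx ?_, ?_⟩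
  · have h2 := congrArg (fun v => h.B v x) h0
    simpa [h.add_left, h.smul_left, hy'] using h2
  · rw [h.add_left, h.add_right, h.add_right, h.smul_left, h.smul_left, h.smul_right, h.smul_right, hy',
      h.eq_zero_symm hy']
    field_simp at hl
    linear_combination hl

theorem exists_isotropic [FiniteDimensional F X] (hX : 2 ≤ finrank F X) : ∃ v, v ≠ 0 ∧ h.B v v = 0 := by
  obtain ⟨v, -, hv⟩ := h.exists_iso_mem (U := ⊤) (by rw [finrank_top]; exact hX)
  exact ⟨v, hv⟩

/-- A subspace containing an isotropic pair is spanned by isotropic vectors not orthogonal to one of them. -/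
theorem le_of_nonorth {U D : Submodule F X} {v e : X} (hv : v ∈ U) (he : e ∈ U) (hvv : h.B v v = 0)
    (hee : h.B e e = 0) (hve : h.B v e = 1) (hD : ∀ u ∈ U, h.B u u = 0 → h.B u v ≠ 0 → u ∈ D) : U ≤ D := by
  have hev := h.eq_one_symm hve
  obtain ⟨δ, hδ0, hδ⟩ := h.exists_skew
  have heD : e ∈ D := hD e he hee (by rw [hev]; exact one_ne_zero)
  have h1 : e + δ • v ∈ D := hD _ (U.add_mem he (U.smul_mem δ hv))
    (by rw [h.add_left, h.add_right, h.add_right, h.smul_left, h.smul_left, h.smul_right, h.smul_right, hvv, hee,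
      hve, hev, hδ]; ring)
    (by rw [h.add_left, h.smul_left, hev, hvv]; simp)
  have hvD : v ∈ D := by
    have h2 := D.smul_mem δ⁻¹ (D.sub_mem h1 heD)
    rwa [add_sub_cancel_left, smul_smul, inv_mul_cancel₀ hδ0, one_smul] at h2
  intro x hx
  set z := x - h.B x e • v - h.B x v • e with hz
  have a1 : h.B z v = 0 := by rw [hz, h.sub_left, h.sub_left, h.smul_left, h.smul_left, hvv, hev]; ring
  have a2 : h.B z e = 0 := by rw [hz, h.sub_left, h.sub_left, h.smul_left, h.smul_left, hee, hve]; ring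
  obtain ⟨t, ht⟩ := h.exists_trace (-h.B z z) (by rw [map_neg, h.conj])
  have hzU : z ∈ U := U.sub_mem (U.sub_mem hx (U.smul_mem _ hv)) (U.smul_mem _ he)
  have h2 : e + z + t • v ∈ D := hD _ (U.add_mem (U.add_mem he hzU) (U.smul_mem t hv))
    (by
      simp only [h.add_left, h.add_right, h.smul_left, h.smul_right, hvv, hee, hve, hev, a1, a2,
        h.eq_zero_symm a1, h.eq_zero_symm a2]
      linear_combination ht)
    (by rw [h.add_left, h.add_left, h.smul_left, hev, a1, hvv]; simp)
  have hzD : z ∈ D := by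
    have := D.sub_mem (D.sub_mem h2 heD) (D.smul_mem t hvD)
    rwa [show e + z + t • v - e - t • v = z by abel] at this
  have := D.add_mem (D.add_mem hzD (D.smul_mem (h.B x v) heD)) (D.smul_mem (h.B x e) hvD)
  rwa [hz, sub_add_cancel, sub_add_cancel] at this

/-- The orthogonal complement of a hyperbolic line. -/
def mid (c e : X) : Submodule F X := LinearMap.ker (h.lin c) ⊓ LinearMap.ker (h.lin e)

theorem mem_mid {c e x : X} : x ∈ h.mid c e ↔ h.B x c = 0 ∧ h.B x e = 0 := Iff.rfl

theorem finrank_mid [FiniteDimensional F X] (c e : X) : finrank F X ≤ finrank F (h.mid c e) + 2 := by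
  have h1 := h.finrank_le_of_perp ⊤ c
  rw [finrank_top, top_inf_eq] at h1
  have h2 := h.finrank_le_of_perp (LinearMap.ker (h.lin c)) e
  rw [mid]
  omega

/-- An isotropic pair orthogonal to a hyperbolic line. -/
theorem exists_pair_mid [FiniteDimensional F X] (hX : 4 ≤ finrank F X) {c e : X} (hcc : h.B c c = 0)
    (hee : h.B e e = 0) (hce : h.B c e = 1) :
    ∃ g g', g ∈ h.mid c e ∧ g' ∈ h.mid c e ∧ h.B g g = 0 ∧ h.B g' g' = 0 ∧ h.B g g' = 1 := by
  have hec := h.eq_one_symm hce
  obtain ⟨g, hg, hg0, hgg⟩ := h.exists_iso_mem (U := h.mid c e) (by have := h.finrank_mid c e; omega)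
  obtain ⟨x, hx, hgx⟩ := h.exists_partner hg0 hgg
  obtain ⟨hgc, hge⟩ := h.mem_mid.1 hg
  set x' := x - h.B x e • c - h.B x c • e with hx'
  have b1 : h.B x' c = 0 := by rw [hx', h.sub_left, h.sub_left, h.smul_left, h.smul_left, hcc, hec]; ring
  have b2 : h.B x' e = 0 := by rw [hx', h.sub_left, h.sub_left, h.smul_left, h.smul_left, hee, hce]; ring
  have b3 : h.B g x' = 1 := by
    rw [hx', h.sub_right, h.sub_right, h.smul_right, h.smul_right, hgc, hge, hgx]; ring
  obtain ⟨t, ht⟩ := h.exists_trace (-h.B x' x') (by rw [map_neg, h.conj])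
  refine ⟨g, x' + t • g, hg, h.mem_mid.2 ⟨?_, ?_⟩, hgg, ?_, ?_⟩
  · rw [h.add_left, h.smul_left, b1, hgc]; ring
  · rw [h.add_left, h.smul_left, b2, hge]; ring
  · rw [h.add_left, h.add_right, h.add_right, h.smul_left, h.smul_left, h.smul_right, h.smul_right, hgg, b3,
      h.eq_one_symm b3]
    linear_combination ht
  · rw [h.add_right, h.smul_right, b3, hgg]; ring

/-- `x ↦ B x v • u`. -/
def dyad (u v : X) : X →ₗ[F] X := (h.lin v).smulRight u

theorem dyad_apply (u v x : X) : h.dyad u v x = h.B x v • u := rfl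

theorem dyad_comp (u v u' v' : X) : h.dyad u v ∘ₗ h.dyad u' v' = h.B u' v • h.dyad u v' :=
  LinearMap.ext fun x => by
    simp only [LinearMap.comp_apply, LinearMap.smul_apply, h.dyad_apply, h.smul_left, smul_smul, mul_comm]

/-- Skew-adjointness. -/
def Skew (A : X →ₗ[F] X) : Prop := ∀ x y, h.B (A x) y + h.B x (A y) = 0

theorem skew_scalar {s : F} (hs : σ s = -s) : h.Skew (s • LinearMap.id) := fun x y => by
  rw [LinearMap.smul_apply, LinearMap.smul_apply, LinearMap.id_apply, LinearMap.id_apply, h.smul_left,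
    h.smul_right, hs]
  ring

theorem Skew.self {A : X →ₗ[F] X} (hA : h.Skew A) (x : X) : σ (h.B (A x) x) = -h.B (A x) x := by
  rw [h.conj]; linear_combination hA x x

/-- A skew map orthogonal to itself on isotropic vectors is scalar. -/
theorem scalar_of_iso [FiniteDimensional F X] (hX : 2 ≤ finrank F X) {A : X →ₗ[F] X} (hA : h.Skew A)
    (hv : ∀ v, h.B v v = 0 → h.B (A v) v = 0) : ∃ k : F, A = k • LinearMap.id := by
  obtain ⟨a, ha⟩ := h.ne
  have hsym : ∀ x y, σ (h.B (A x) y) = -h.B (A y) x := fun x y => by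
    rw [h.conj]; linear_combination hA y x
  -- two partners
  have hpair : ∀ p r, h.B p p = 0 → h.B r r = 0 → h.B p r = 1 → h.B (A p) r = h.B (A r) p := by
    intro p r hp hr hpr
    obtain ⟨δ, hδ0, hδ⟩ := h.exists_skew
    have h1 := hv (p + δ • r) (by
      rw [h.add_left, h.add_right, h.add_right, h.smul_left, h.smul_left, h.smul_right, h.smul_right, hp, hr,
        hpr, h.eq_one_symm hpr, hδ]; ring)
    rw [map_add, map_smul, h.add_left, h.add_right, h.add_right, h.smul_left, h.smul_left, h.smul_right,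
      h.smul_right, hv p hp, hv r hr, hδ] at h1
    exact sub_eq_zero.1 ((mul_eq_zero.1
      (show δ * (h.B (A p) r - h.B (A r) p) = 0 by linear_combination -h1)).resolve_left hδ0)
  obtain ⟨v, hv0, hvv⟩ := h.exists_isotropic hX
  obtain ⟨w, hww, hvw⟩ := h.exists_partner hv0 hvv
  have hwv := h.eq_one_symm hvw
  set c := h.B (A v) w with hc
  have hAwv : h.B (A w) v = c := (hpair v w hvv hww hvw).symm
  -- the middle
  have hmid : ∀ p r, h.B p p = 0 → h.B r r = 0 → h.B p r = 1 → ∀ z, h.B z p = 0 → h.B z r = 0 →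
      h.B (A p) z = 0 ∧ h.B (A z) p = 0 := by
    intro p r hp hr hpr z hzp hzr
    have key : ∀ l : F, σ l * h.B (A p) z = l * h.B (A z) p := by
      intro l
      obtain ⟨t, ht⟩ := h.exists_trace (-h.B (l • z) (l • z)) (by rw [map_neg, h.conj])
      have hu : h.B (r + l • z + t • p) (r + l • z + t • p) = 0 := by
        simp only [h.add_left, h.add_right, h.smul_left, h.smul_right, hp, hr, hpr, h.eq_one_symm hpr, hzp, hzr,
          h.eq_zero_symm hzp, h.eq_zero_symm hzr] at ht ⊢
        linear_combination ht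
      have h1 := hpair p _ hp hu (by
        simp only [h.add_right, h.smul_right, hp, hpr, h.eq_zero_symm hzp, mul_zero, add_zero])
      simp only [map_add, map_smul, h.add_left, h.add_right, h.smul_left, h.smul_right, hv p hp] at h1
      linear_combination h1 - hpair p r hp hr hpr
    have h1 := key 1
    rw [map_one, one_mul, one_mul] at h1
    have h2 := key a
    rw [← h1] at h2
    have h3 : h.B (A p) z = 0 := (mul_eq_zero.1 (show (σ a - a) * h.B (A p) z = 0 by linear_combination h2)).resolve_left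
      (sub_ne_zero.2 ha)
    exact ⟨h3, h1 ▸ h3⟩
  let G := fun x y => h.B (A x) y - c * h.B x y
  refine ⟨c, LinearMap.ext fun x => h.ext_left fun y => ?_⟩
  suffices hG : ∀ x, G x x = 0 by
    have h1 := hG (x + y)
    have h2 := hG (x + a • y)
    have h3 := hG x
    have h4 := hG y
    simp only [G, map_add, map_smul, h.add_left, h.add_right, h.smul_left, h.smul_right] at h1 h2 h3 h4
    rw [LinearMap.smul_apply, LinearMap.id_apply, h.smul_left]
    exact sub_eq_zero.1 ((mul_eq_zero.1 (show (σ a - a) * (h.B (A x) y - c * h.B x y) = 0 by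
      linear_combination h2 - a * h1 - (1 - a) * h3 - (a * σ a - a) * h4)).resolve_left (sub_ne_zero.2 ha))
  intro x
  set z := x - h.B x w • v - h.B x v • w with hz
  have a1 : h.B z v = 0 := by rw [hz, h.sub_left, h.sub_left, h.smul_left, h.smul_left, hvv, hwv]; ring
  have a2 : h.B z w = 0 := by rw [hz, h.sub_left, h.sub_left, h.smul_left, h.smul_left, hww, hvw]; ring
  obtain ⟨m1, m2⟩ := hmid v w hvv hww hvw z a1 a2
  obtain ⟨m3, m4⟩ := hmid w v hww hvv hwv z a2 a1
  obtain ⟨t, ht⟩ := h.exists_trace (-h.B z z) (by rw [map_neg, h.conj])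
  have hu : h.B (w + z + t • v) (w + z + t • v) = 0 := by
    simp only [h.add_left, h.add_right, h.smul_left, h.smul_right, hvv, hww, hvw, hwv, a1, a2,
      h.eq_zero_symm a1, h.eq_zero_symm a2]
    linear_combination ht
  have hzz : h.B (A z) z = c * h.B z z := by
    have h1 := hv _ hu
    simp only [map_add, map_smul, h.add_left, h.add_right, h.smul_left, h.smul_right, hv v hvv, hv w hww, m1, m2,
      m3, m4, ← hc, hAwv] at h1
    linear_combination h1 - c * ht
  have hx : x = z + h.B x w • v + h.B x v • w := by rw [hz]; abel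
  show h.B (A x) x - c * h.B x x = 0
  conv_lhs => rw [hx]
  simp only [map_add, map_smul, h.add_left, h.add_right, h.smul_left, h.smul_right, hv v hvv, hv w hww, m1, m2, m3,
    m4, ← hc, hAwv, hzz, hvv, hww, hvw, hwv, a1, a2, h.eq_zero_symm a1, h.eq_zero_symm a2]
  ring

/-- `x ↦ x + l B(x, v) v`. -/
def tv (l : F) (v : X) (hv : h.B v v = 0) : X ≃ₗ[F] X :=
  LinearEquiv.ofLinearMap (LinearMap.id + l • h.dyad v v) (LinearMap.id + (-l) • h.dyad v v)
    (LinearMap.ext fun x => by simp [h.dyad_apply, h.add_left, h.neg_left, h.smul_left, hv])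
    (LinearMap.ext fun x => by simp [h.dyad_apply, h.add_left, h.neg_left, h.smul_left, hv])

theorem tv_apply (l : F) {v : X} (hv : h.B v v = 0) (x : X) : h.tv l v hv x = x + l • (h.B x v • v) := rfl

theorem tv_symm (l : F) {v : X} (hv : h.B v v = 0) (x : X) : (h.tv l v hv).symm x = x + (-l) • (h.B x v • v) :=
  rfl

theorem tv_iso {l : F} (hl : σ l = -l) {v : X} (hv : h.B v v = 0) (x y : X) :
    h.B (h.tv l v hv x) (h.tv l v hv y) = h.B x y := by
  simp only [h.tv_apply, h.add_left, h.add_right, h.smul_left, h.smul_right, hv, hl, h.conj]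
  ring

/-- A property of isotropic vectors stable under transvections and scaling holds for all of them. -/
theorem iso_induct {p : X → Prop} {v : X} (hv : v ≠ 0) (hvv : h.B v v = 0) (hp : p v)
    (hsmul : ∀ (k : F) x, k ≠ 0 → x ≠ 0 → h.B x x = 0 → p x → p (k • x))
    (htv : ∀ (l : F) u (hu : h.B u u = 0) x, σ l = -l → x ≠ 0 → h.B x x = 0 → p x → p (h.tv l u hu x)) :
    ∀ w, w ≠ 0 → h.B w w = 0 → p w := by
  obtain ⟨δ, hδ0, hδ⟩ := h.exists_skew
  have step : ∀ x w, x ≠ 0 → h.B x x = 0 → w ≠ 0 → h.B w w = 0 → h.B x w ≠ 0 → p x → p w := by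
    intro x w hx hxx hw hww hxw hpx
    set k := h.B x w with hk
    have hsk : σ k ≠ 0 := (map_ne_zero σ).2 hxw
    set ν := δ / σ k with hν
    have hν0 : ν ≠ 0 := div_ne_zero hδ0 hsk
    have hsν : σ ν * k = -δ := by rw [hν, map_div₀, h.inv, hδ, div_mul_cancel₀ _ hxw]
    have hu : h.B (x + ν • w) (x + ν • w) = 0 := by
      rw [h.add_left, h.add_right, h.add_right, h.smul_left, h.smul_left, h.smul_right, h.smul_right, hxx, hww,
        ← h.conj x w, ← hk]
      have : ν * σ k = δ := div_mul_cancel₀ _ hsk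
      linear_combination hsν + this
    have hl : σ δ⁻¹ = -δ⁻¹ := by rw [map_inv₀, hδ, inv_neg]
    have h1 := htv δ⁻¹ _ hu x hl hx hxx hpx
    have h2 : h.tv δ⁻¹ _ hu x = (-ν) • w := by
      rw [h.tv_apply, h.add_right, h.smul_right, hxx, ← hk, hsν, zero_add, smul_smul, mul_neg,
        inv_mul_cancel₀ hδ0]
      module
    rw [h2] at h1
    have h3 := hsmul (-ν)⁻¹ _ (inv_ne_zero (neg_ne_zero.2 hν0)) (smul_ne_zero (neg_ne_zero.2 hν0) hw)
      (by rw [h.smul_left, h.smul_right, hww]; ring) h1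
    rwa [smul_smul, inv_mul_cancel₀ (neg_ne_zero.2 hν0), one_smul] at h3
  intro w hw hww
  by_cases hvw : h.B v w = 0
  swap
  · exact step v w hv hvv hw hww hvw hp
  obtain ⟨v', hv', hv'1⟩ := h.exists_partner hv hvv
  obtain ⟨w', hw', hw'1⟩ := h.exists_partner hw hww
  obtain ⟨u, hu, huv, huw⟩ : ∃ u, h.B u u = 0 ∧ h.B v u ≠ 0 ∧ h.B u w ≠ 0 := by
    by_cases h1 : h.B v' w = 0
    swap
    · exact ⟨v', hv', by rw [hv'1]; exact one_ne_zero, h1⟩
    by_cases h2 : h.B v w' = 0
    swap
    · exact ⟨w', hw', h2, by rw [h.eq_one_symm hw'1]; exact one_ne_zero⟩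
    obtain ⟨ν, hν0, hν⟩ : ∃ ν : F, ν ≠ 0 ∧ ν * h.B w' v' + σ ν * h.B v' w' = 0 := by
      by_cases h3 : h.B v' w' = 0
      · exact ⟨1, one_ne_zero, by rw [h3, h.eq_zero_symm h3]; ring⟩
      refine ⟨δ / h.B w' v', div_ne_zero hδ0 fun h4 => h3 (h.eq_zero_symm h4), ?_⟩
      rw [map_div₀, h.conj, hδ, div_mul_cancel₀ _ h3, div_mul_cancel₀ _ fun h4 => h3 (h.eq_zero_symm h4)]
      ring
    refine ⟨v' + ν • w', ?_, ?_, ?_⟩
    · rw [h.add_left, h.add_right, h.add_right, h.smul_left, h.smul_left, h.smul_right, h.smul_right, hv', hw']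
      linear_combination hν
    · rw [h.add_right, h.smul_right, hv'1, h2]; simp
    · rw [h.add_left, h.smul_left, h1, h.eq_one_symm hw'1]; simpa using hν0
  have hu0 : u ≠ 0 := fun e => huw (by rw [e, h.zero_left])
  exact step u w hu0 hu hw hww huw (step v u hv hvv hu0 hu huv hp)

/-- Siegel map: `x ↦ x + B(x,c) f - B(x,f) c + k B(x,c) c`. -/
def siegelMap (c f : X) (k : F) : X →ₗ[F] X :=
  LinearMap.id + h.dyad f c - h.dyad c f + k • h.dyad c c

theorem siegelMap_apply (c f : X) (k : F) (x : X) :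
    h.siegelMap c f k x = x + h.B x c • f - h.B x f • c + k • (h.B x c • c) := rfl

/-- The Siegel automorphism. -/
def siegel (c f : X) (k : F) (hcc : h.B c c = 0) (hfc : h.B f c = 0) (hk : k + σ k = -h.B f f) : X ≃ₗ[F] X :=
  LinearEquiv.ofLinearMap (h.siegelMap c f k) (h.siegelMap c (-f) (σ k))
    (LinearMap.ext fun x => by
      simp only [LinearMap.comp_apply, h.siegelMap_apply, LinearMap.id_apply, h.add_left, h.sub_left, h.smul_left,
        h.neg_right, hcc, hfc, h.eq_zero_symm hfc, h.neg_left, mul_zero, neg_zero, mul_neg]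
      linear_combination (norm := module) h.B x c • congrArg (fun t : F => t • c) hk)
    (LinearMap.ext fun x => by
      simp only [LinearMap.comp_apply, h.siegelMap_apply, LinearMap.id_apply, h.add_left, h.sub_left, h.smul_left,
        h.neg_right, hcc, hfc, h.eq_zero_symm hfc, mul_zero, neg_zero, mul_neg]
      linear_combination (norm := module) h.B x c • congrArg (fun t : F => t • c) hk)

theorem siegel_apply {c f : X} {k : F} (hcc : h.B c c = 0) (hfc : h.B f c = 0) (hk : k + σ k = -h.B f f)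
    (x : X) : h.siegel c f k hcc hfc hk x = x + h.B x c • f - h.B x f • c + k • (h.B x c • c) := rfl

theorem siegel_iso {c f : X} {k : F} (hcc : h.B c c = 0) (hfc : h.B f c = 0) (hk : k + σ k = -h.B f f)
    (x y : X) : h.B (h.siegel c f k hcc hfc hk x) (h.siegel c f k hcc hfc hk y) = h.B x y := by
  simp only [h.siegel_apply, h.add_left, h.add_right, h.sub_left, h.sub_right, h.smul_left, h.smul_right, hcc, hfc,
    h.eq_zero_symm hfc, h.conj]
  linear_combination h.B x c * h.B c y * hk

section adjoint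

variable [Finite F] [FiniteDimensional F X]

theorem exists_rep (φ : X →ₗ[F] F) : ∃ y, ∀ x, h.B x y = φ x := by
  haveI : Finite X := Module.finite_of_finite F
  have hinj : Function.Injective h.lin := fun y y' e => h.ext_right fun x => LinearMap.congr_fun e x
  have hcard : Nat.card X = Nat.card (X →ₗ[F] F) := by
    rw [Module.natCard_eq_pow_finrank (K := F), Module.natCard_eq_pow_finrank (K := F) (V := X →ₗ[F] F),
      Subspace.dual_finrank_eq]
  haveI : Finite (X →ₗ[F] F) := Module.finite_of_finite F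
  obtain ⟨y, hy⟩ := ((Nat.bijective_iff_injective_and_card _).2 ⟨hinj, hcard⟩).2 φ
  exact ⟨y, fun x => LinearMap.congr_fun hy x⟩

/-- The vector representing a functional. -/
noncomputable def rep (φ : X →ₗ[F] F) : X := (h.exists_rep φ).choose

theorem B_rep (φ : X →ₗ[F] F) (x : X) : h.B x (h.rep φ) = φ x := (h.exists_rep φ).choose_spec x

/-- The adjoint. -/
noncomputable def adj (A : X →ₗ[F] X) : X →ₗ[F] X where
  toFun y := h.rep (h.lin y ∘ₗ A)
  map_add' y y' := h.ext_right fun x => by
    simp only [h.add_right, h.B_rep, LinearMap.comp_apply, h.lin_apply]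
  map_smul' c y := h.ext_right fun x => by
    simp only [h.smul_right, h.B_rep, LinearMap.comp_apply, h.lin_apply, RingHom.id_apply]

theorem B_adj (A : X →ₗ[F] X) (x y : X) : h.B x (h.adj A y) = h.B (A x) y := h.B_rep _ x

theorem adj_B (A : X →ₗ[F] X) (x y : X) : h.B (h.adj A x) y = h.B x (A y) := by
  rw [← h.conj, h.B_adj, h.conj]

/-- A basis with its dual family. -/
theorem exists_dual_basis : ∃ b d : Fin (finrank F X) → X,
    (∀ x, ∑ i, h.B x (d i) • b i = x) ∧ ∀ i j, h.B (b i) (d j) = if i = j then 1 else 0 := by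
  classical
  let β := finBasis F X
  refine ⟨β, fun i => h.rep (β.coord i), fun x => ?_, fun i j => ?_⟩
  · conv_rhs => rw [← β.sum_repr x]
    exact Finset.sum_congr rfl fun i _ => by rw [h.B_rep]; rfl
  · rw [h.B_rep, Basis.coord_apply, β.repr_self, Finsupp.single_apply]

end adjoint

end Herm

end Cfsg.Agent.H58.TensorUnit3
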