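import Cfsg.Agent.H58.TensorUnit3.Space

/-!
The radical attached to a singular factor space and the line lemma: an element mapping one singular factor
space to another is decomposable.
-/

set_option autoImplicit false
set_option maxHeartbeats 1000000
set_option linter.unusedSectionVars false

namespace Cfsg.Agent.H58.TensorUnit3

open Module

variable {F : Type*} [Field F] [Finite F] {σ : F ≃+* F} {V W X : Type*}
  [AddCommGroup V] [Module F V] [FiniteDimensional F V]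
  [AddCommGroup W] [Module F W] [FiniteDimensional F W]
  [AddCommGroup X] [Module F X] [FiniteDimensional F X]

namespace Sys

variable (S : Sys F σ V W X)

/-- Fixing `c ⊗ X` and moving its orthogonal by it. -/
def Rad (c : W) (u : V ≃ₗ[F] V) : Prop :=
  (∀ x, u (S.t c x) = S.t c x) ∧ ∀ v, S.P c v = 0 → ∃ a, u v - v = S.t c a

/-- A split expansion. -/
theorem decomp_split {κ : Type*} [Fintype κ] {b d : κ → W} (hb : ∀ w, ∑ i, S.H.B w (d i) • b i = w)
    (c e : W) (v : V) :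
    v = ∑ i, S.t (b i) (S.P (d i - S.H.B (d i) c • e) v) + S.t c (S.P e v) := by
  have h1 : ∀ i, S.P (d i) v = S.P (d i - S.H.B (d i) c • e) v + S.H.B c (d i) • S.P e v := fun i => by
    rw [S.P_sub, S.P_smul, S.H.conj, sub_add_cancel]
  conv_lhs => rw [← S.decomp hb v]
  simp only [h1, map_add, map_smul, Finset.sum_add_distrib]
  congr 1
  conv_rhs => rw [← hb c, map_sum, LinearMap.sum_apply]
  simp only [map_smul, LinearMap.smul_apply]

theorem rad_P {c : W} {u : V ≃ₗ[F] V} (hu : S.Rad c u) (hui : S.IsIso u) (v : V) : S.P c (u v) = S.P c v :=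
  S.K.ext_left fun x => by rw [S.P_B, S.P_B]; conv_lhs => rw [← hu.1 x, hui]

theorem rad_det {c : W} (hc : S.H.B c c = 0) {u : V ≃ₗ[F] V} (hu : S.Rad c u) (hui : S.IsIso u) :
    LinearEquiv.det u = 1 :=
  det_eq_one (n := 3) (LinearMap.ext fun v => by
    have h1 : S.P c (u v - v) = 0 := by rw [map_sub, S.rad_P hu hui, sub_self]
    obtain ⟨a, ha⟩ := hu.2 _ h1
    show ((u : Module.End F V) - 1) (((u : Module.End F V) - 1) (((u : Module.End F V) - 1) v)) = 0
    simp only [LinearMap.sub_apply, Module.End.one_apply, LinearEquiv.coe_coe]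
    rw [ha, hu.1, sub_self])

/-- The translation part is determined by the action on the complement. -/
theorem rad_form {c e : W} (hce : S.H.B c e = 1) {u : V ≃ₗ[F] V} (hu : S.Rad c u) (hui : S.IsIso u)
    {v : V} (hv : S.P c v = 0) (y : X) :
    S.K.B (S.P e (u v - v)) y = -S.Ω.B v (u (S.t e y) - S.t e y) := by
  obtain ⟨a, ha⟩ := hu.2 v hv
  have h1 := hui v (S.t e y)
  have h2 : S.P c (u (S.t e y) - S.t e y) = 0 := by rw [map_sub, S.rad_P hu hui, sub_self]
  have h3 : S.Ω.B (S.t c a) (u (S.t e y)) = S.K.B a y := by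
    rw [show u (S.t e y) = S.t e y + (u (S.t e y) - S.t e y) by abel, S.Ω.add_right, S.ω_pure, hce, one_mul,
      ← S.B_P, h2, S.K.zero_right, add_zero]
  rw [show u v = v + S.t c a by rw [← ha]; abel, S.Ω.add_left, h3] at h1
  rw [ha, S.P_pure, hce, one_smul, S.Ω.sub_right]
  linear_combination h1

/-- Commutators of radical elements. -/
theorem rad_comm {M : Subgroup (V ≃ₗ[F] V)} (hM : S.Over M) {c e : W} (hc : S.H.B c c = 0)
    (hce : S.H.B c e = 1) {u u' : V ≃ₗ[F] V} (hu : u ∈ M) (hu' : u' ∈ M) (hr : S.Rad c u) (hr' : S.Rad c u') :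
    ∃ A : X →ₗ[F] X, S.up c hc A ∈ M ∧ ∀ z y, S.K.B (A z) y =
      S.Ω.B (u (S.t e z) - S.t e z) (u' (S.t e y) - S.t e y) -
        S.Ω.B (u' (S.t e z) - S.t e z) (u (S.t e y) - S.t e y) := by
  let Φ : X →ₗ[F] V := ((u : V →ₗ[F] V) - 1) ∘ₗ S.t e
  let Φ' : X →ₗ[F] V := ((u' : V →ₗ[F] V) - 1) ∘ₗ S.t e
  have hi := hM.iso _ hu
  have hi' := hM.iso _ hu'
  have hΦ : ∀ z, S.P c (Φ z) = 0 := fun z => by
    show S.P c (u (S.t e z) - S.t e z) = 0
    rw [map_sub, S.rad_P hr hi, sub_self]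
  have hΦ' : ∀ z, S.P c (Φ' z) = 0 := fun z => by
    show S.P c (u' (S.t e z) - S.t e z) = 0
    rw [map_sub, S.rad_P hr' hi', sub_self]
  refine ⟨S.P e ∘ₗ ((u : V →ₗ[F] V) - 1) ∘ₗ Φ' - S.P e ∘ₗ ((u' : V →ₗ[F] V) - 1) ∘ₗ Φ, ?_, fun z y => ?_⟩
  · suffices S.up c hc (S.P e ∘ₗ ((u : V →ₗ[F] V) - 1) ∘ₗ Φ' - S.P e ∘ₗ ((u' : V →ₗ[F] V) - 1) ∘ₗ Φ) =
        (u * u') * (u' * u)⁻¹ by
      rw [this]; exact M.mul_mem (M.mul_mem hu hu') (M.inv_mem (M.mul_mem hu' hu))
    rw [eq_mul_inv_iff_mul_eq]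
    refine LinearEquiv.ext fun v => ?_
    have hv0 : S.P c (v - S.t e (S.P c v)) = 0 := by
      rw [map_sub, S.P_pure, S.H.eq_one_symm hce, one_smul, sub_self]
    set z := S.P c v with hz
    set v0 := v - S.t e z with hv0'
    have hv : v = v0 + S.t e z := by rw [hv0']; abel
    have key : ∀ {p : V ≃ₗ[F] V}, S.Rad c p → ∀ {w : V}, S.P c w = 0 →
        p w = w + S.t c (S.P e (((p : V →ₗ[F] V) - 1) w)) := fun {p} hp {w} hw => by
      obtain ⟨a, ha⟩ := hp.2 w hw
      show p w = w + S.t c (S.P e (p w - w))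
      rw [ha, S.P_pure, hce, one_smul, ← ha]; abel
    have e1 : u v = v + S.t c (S.P e (((u : V →ₗ[F] V) - 1) v0)) + Φ z := by
      conv_lhs => rw [hv, map_add, key hr hv0]
      show _ + u (S.t e z) = _ + (u (S.t e z) - S.t e z)
      conv_rhs => rw [hv]
      abel
    have e2 : u' v = v + S.t c (S.P e (((u' : V →ₗ[F] V) - 1) v0)) + Φ' z := by
      conv_lhs => rw [hv, map_add, key hr' hv0]
      show _ + u' (S.t e z) = _ + (u' (S.t e z) - S.t e z)
      conv_rhs => rw [hv]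
      abel
    rw [LinearEquiv.mul_apply, LinearEquiv.mul_apply, LinearEquiv.mul_apply, S.up_apply, S.rad_P hr' hi',
      S.rad_P hr hi, e1, e2, map_add, map_add, map_add, map_add, hr'.1, hr.1, key hr' (hΦ z), key hr (hΦ' z),
      e1, e2, ← hz, LinearMap.sub_apply, map_sub]
    simp only [LinearMap.comp_apply, LinearMap.sub_apply, Module.End.one_apply, map_sub, map_add]
    abel
  · rw [LinearMap.sub_apply, S.K.sub_left]
    simp only [LinearMap.comp_apply, LinearMap.sub_apply, Module.End.one_apply, LinearEquiv.coe_coe]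
    rw [S.rad_form hce hr hi (hΦ' z), S.rad_form hce hr' hi' (hΦ z)]
    show -S.Ω.B (u' (S.t e z) - S.t e z) _ - -S.Ω.B (u (S.t e z) - S.t e z) _ = _
    ring

theorem det_tens {A : W ≃ₗ[F] W} {n : ℕ} (hA : ((A : Module.End F W) - 1) ^ n = 0) :
    LinearEquiv.det (S.tens A (LinearEquiv.refl F X)) = 1 := by
  refine det_eq_one (n := n) (S.ext_pure fun w x => ?_)
  suffices h : ∀ m : ℕ, ((((S.tens A (LinearEquiv.refl F X) : V ≃ₗ[F] V) : Module.End F V) - 1) ^ m) (S.t w x) =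
      S.t ((((A : Module.End F W) - 1) ^ m) w) x by
    rw [h n, hA]; simp
  intro m
  induction m with
  | zero => rfl
  | succ m ih =>
    rw [pow_succ', pow_succ', Module.End.mul_apply, Module.End.mul_apply, ih]
    simp [S.tens_pure]

/-- A Siegel element of `W` acting on the product. -/
noncomputable def sg (c f : W) (k : F) (hc : S.H.B c c = 0) (hfc : S.H.B f c = 0) (hk : k + σ k = -S.H.B f f) :
    V ≃ₗ[F] V :=
  S.tens (S.H.siegel c f k hc hfc hk) (LinearEquiv.refl F X)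

theorem sg_apply {c f : W} {k : F} (hc : S.H.B c c = 0) (hfc : S.H.B f c = 0) (hk : k + σ k = -S.H.B f f)
    (v : V) : S.sg c f k hc hfc hk v = v + S.t f (S.P c v) + S.t c (k • S.P c v - S.P f v) :=
  LinearMap.congr_fun (S.ext_pure (f := (S.sg c f k hc hfc hk).toLinearMap)
    (g := LinearMap.id + S.t f ∘ₗ S.P c + S.t c ∘ₗ (k • S.P c - S.P f)) fun w x => by
      show S.sg c f k hc hfc hk (S.t w x) = _
      rw [sg, S.tens_pure, S.H.siegel_apply hc hfc hk]
      simp only [LinearMap.add_apply, LinearMap.id_apply, LinearMap.comp_apply, LinearMap.sub_apply,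
        LinearMap.smul_apply, S.P_pure, map_add, map_sub, map_smul, LinearEquiv.refl_apply]
      module) v

theorem sg_mem {M : Subgroup (V ≃ₗ[F] V)} (hM : S.Over M) {c f : W} {k : F} (hc : S.H.B c c = 0)
    (hfc : S.H.B f c = 0) (hk : k + σ k = -S.H.B f f) : S.sg c f k hc hfc hk ∈ M := by
  refine hM.dec _ (S.tens_iso fun w u x y => ?_) (S.det_tens (n := 3) ?_) (S.tens_dec _ _)
  · rw [S.H.siegel_iso hc hfc hk, LinearEquiv.refl_apply, LinearEquiv.refl_apply]
  · refine LinearMap.ext fun w => ?_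
    show ((S.H.siegel c f k hc hfc hk : Module.End F W) - 1) (((S.H.siegel c f k hc hfc hk : Module.End F W) - 1)
      (((S.H.siegel c f k hc hfc hk : Module.End F W) - 1) w)) = 0
    simp [S.H.siegel_apply, S.H.add_left, S.H.sub_left, S.H.smul_left, S.H.neg_left, hc, hfc,
      S.H.eq_zero_symm hfc]

theorem sg_rad {c f : W} {k : F} (hc : S.H.B c c = 0) (hfc : S.H.B f c = 0) (hk : k + σ k = -S.H.B f f) :
    S.Rad c (S.sg c f k hc hfc hk) := by
  refine ⟨fun x => ?_, fun v hv => ⟨-S.P f v, ?_⟩⟩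
  · rw [S.sg_apply, S.P_pure, S.P_pure, hc, S.H.eq_zero_symm hfc]
    simp
  · rw [S.sg_apply, hv]
    simp

theorem sg_te {c e f : W} {k : F} (hc : S.H.B c c = 0) (hfc : S.H.B f c = 0) (hk : k + σ k = -S.H.B f f)
    (hec : S.H.B e c = 1) (z : X) :
    S.sg c f k hc hfc hk (S.t e z) - S.t e z = S.t f z + S.t c ((k - S.H.B e f) • z) := by
  rw [S.sg_apply, S.P_pure, S.P_pure, hec, one_smul, sub_smul]
  abel

variable {M : Subgroup (V ≃ₗ[F] V)}

/-- In the absence of non-scalar elements the translation parts are scalar. -/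
theorem rad_scalar (hM : S.Over M) (hS : S.Small M) {c e : W} (hc0 : c ≠ 0) (hc : S.H.B c c = 0)
    (hce : S.H.B c e = 1) {u : V ≃ₗ[F] V} (hu : u ∈ M) (hr : S.Rad c u) {f : W} (hfc : S.H.B f c = 0) :
    ∃ k : F, ∀ z, S.P f (u (S.t e z) - S.t e z) = k • z := by
  have hec := S.H.eq_one_symm hce
  have hΦ : ∀ z, S.P c (u (S.t e z) - S.t e z) = 0 := fun z => by
    rw [map_sub, S.rad_P hr (hM.iso _ hu), sub_self]
  have key : ∀ f, S.H.B f c = 0 → ∃ κ : F, ∀ z y, S.K.B (S.P f (u (S.t e z) - S.t e z)) y -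
      S.K.B z (S.P f (u (S.t e y) - S.t e y)) = κ * S.K.B z y := by
    intro f hf
    obtain ⟨k, hk⟩ := S.H.exists_trace (-S.H.B f f) (by rw [map_neg, S.H.conj])
    obtain ⟨A, hA, hA'⟩ := S.rad_comm hM hc hce hu (S.sg_mem hM hc hf hk) hr (S.sg_rad hc hf hk)
    obtain ⟨κ, rfl⟩ := hS c hc0 hc A hA
    refine ⟨κ, fun z y => ?_⟩
    have h := hA' z y
    rw [LinearMap.smul_apply, LinearMap.id_apply, S.K.smul_left, S.sg_te hc hf hk hec, S.sg_te hc hf hk hec,
      S.Ω.add_right, S.Ω.add_left, ← S.P_B, ← S.P_B, ← S.B_P, ← S.B_P, hΦ, hΦ, S.K.zero_left,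
      S.K.zero_right] at h
    linear_combination -h
  obtain ⟨a, ha⟩ := S.K.ne
  obtain ⟨κ, hκ⟩ := key f hfc
  obtain ⟨κ', hκ'⟩ := key (a • f) (by rw [S.H.smul_left, hfc, mul_zero])
  refine ⟨(κ' - a * κ) / (σ a - a), fun z => S.K.ext_left fun y => ?_⟩
  have h1 := hκ z y
  have h2 := hκ' z y
  rw [S.P_smul, S.P_smul, S.K.smul_left, S.K.smul_right, S.K.inv] at h2
  rw [S.K.smul_left, div_mul_eq_mul_div, eq_div_iff (sub_ne_zero.2 ha)]
  linear_combination h2 - a * h1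

/-- An element mapping a singular factor space to a factor space is decomposable. -/
theorem line (hM : S.Over M) (hS : S.Small M) {g : V ≃ₗ[F] V} (hg : g ∈ M) {c c' : W} (hc0 : c ≠ 0)
    (hc : S.H.B c c = 0) (hc'0 : c' ≠ 0) (hmap : ∀ x, ∃ x', g (S.t c x) = S.t c' x') : S.Dec g := by
  have hgi := hM.iso _ hg
  obtain ⟨x0, hx0⟩ := S.X0
  obtain ⟨e, hee, hce⟩ := S.H.exists_partner hc0 hc
  have hec := S.H.eq_one_symm hce
  obtain ⟨e₁, he₁⟩ := S.H.exists_one hc'0
  let A₁ : X →ₗ[F] X := S.P e₁ ∘ₗ g.toLinearMap ∘ₗ S.t c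
  have hA₁ : ∀ x, g (S.t c x) = S.t c' (A₁ x) := fun x => by
    obtain ⟨x', hx'⟩ := hmap x
    show _ = S.t c' (S.P e₁ (g (S.t c x)))
    rw [hx', S.P_pure, he₁, one_smul]
  have hA₁i : Function.Injective A₁ := (injective_iff_map_eq_zero A₁).2 fun x hx =>
    S.t_inj hc0 (g.injective (by rw [hA₁, hx, map_zero, map_zero]))
  let A := LinearEquiv.ofInjectiveEndo A₁ hA₁i
  have hA : ∀ x, g (S.t c x) = S.t c' (A x) := hA₁
  have hc' : S.H.B c' c' = 0 := by
    obtain ⟨y, hy⟩ := S.K.exists_one hx0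
    have h := hgi (S.t c (A.symm x0)) (S.t c (A.symm y))
    rw [hA, hA, A.apply_symm_apply, A.apply_symm_apply, S.ω_pure, S.ω_pure, hc, hy, zero_mul, mul_one] at h
    exact h
  obtain ⟨e₂, he₂, hce₂⟩ := S.H.exists_partner hc'0 hc'
  have hec₂ := S.H.eq_one_symm hce₂
  set Aα := S.K.adj A.toLinearMap with hAα
  have hP : ∀ v, Aα (S.P c' (g v)) = S.P c v := fun v => S.K.ext_left fun x => by
    rw [hAα, S.K.adj_B, LinearEquiv.coe_coe, S.P_B, ← hA, hgi, S.P_B]
  obtain ⟨δ, hδ0, hδ⟩ := S.H.exists_skew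
  obtain ⟨μ, hμ⟩ : ∃ μ : F, ∀ x, A (Aα x) = μ • x := by
    have h1 : g * S.up c hc (δ • LinearMap.id) * g⁻¹ = S.up c' hc' (δ • (A.toLinearMap ∘ₗ Aα)) := by
      rw [mul_inv_eq_iff_eq_mul]
      refine LinearEquiv.ext fun v => ?_
      simp only [LinearEquiv.mul_apply, S.up_apply, LinearMap.smul_apply, LinearMap.id_apply, map_add, hA,
        LinearMap.comp_apply, LinearEquiv.coe_coe, hP, map_smul]
    obtain ⟨k, hk⟩ := hS c' hc'0 hc' _ (h1 ▸ M.mul_mem (M.mul_mem hg (S.up_scalar_mem hM hc0 hc hδ)) (M.inv_mem hg))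
    refine ⟨k / δ, fun x => ?_⟩
    have h2 := LinearMap.congr_fun hk x
    simp only [LinearMap.smul_apply, LinearMap.comp_apply, LinearMap.id_apply, LinearEquiv.coe_coe] at h2
    rw [div_eq_inv_mul, ← smul_smul, ← h2, smul_smul, inv_mul_cancel₀ hδ0, one_smul]
  have hμ0 : μ ≠ 0 := by
    rintro rfl
    obtain ⟨v, hv⟩ := S.P_surj hc0 x0
    have h1 := hμ (S.P c' (g v))
    rw [hP, hv, zero_smul, LinearEquiv.map_eq_zero_iff] at h1
    exact hx0 h1
  have hμr : σ μ = μ := by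
    obtain ⟨y, hy⟩ := S.K.exists_one hx0
    have h1 : S.K.B (A (Aα x0)) y = S.K.B x0 (A (Aα y)) := by
      have h2 := S.K.B_adj A.toLinearMap (Aα x0) y
      have h3 := S.K.adj_B A.toLinearMap x0 (Aα y)
      rw [LinearEquiv.coe_coe] at h2 h3
      rw [← h2, ← h3]
    rw [hμ, hμ, S.K.smul_left, S.K.smul_right, hy, mul_one, mul_one] at h1
    exact h1.symm
  have hAA : ∀ x y, S.K.B (A x) (A y) = μ * S.K.B x y := fun x y => by
    obtain ⟨v, rfl⟩ := S.P_surj hc0 y
    rw [← hP v, hμ, S.K.smul_right, hμr, hAα, S.K.B_adj, LinearEquiv.coe_coe]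
  have hAαA : ∀ z, Aα (A z) = μ • z := fun z => S.K.ext_left fun y => by
    rw [hAα, S.K.adj_B, LinearEquiv.coe_coe, hAA, S.K.smul_left]
  -- conjugates of Siegel elements
  have hmain : ∀ f, S.H.B f c = 0 → ∀ f₂, S.H.B f₂ c' = 0 → ∃ k : F, ∀ z, S.P f₂ (g (S.t f z)) = k • A z := by
    intro f hf f₂ hf₂
    obtain ⟨k₀, hk₀⟩ := S.H.exists_trace (-S.H.B f f) (by rw [map_neg, S.H.conj])
    set s := S.sg c f k₀ hc hf hk₀ with hs
    have hu : g * s * g⁻¹ ∈ M := M.mul_mem (M.mul_mem hg (S.sg_mem hM hc hf hk₀)) (M.inv_mem hg)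
    have hrad : S.Rad c' (g * s * g⁻¹) := by
      refine ⟨fun x => ?_, fun v hv => ?_⟩
      · show g (s (g.symm (S.t c' x))) = S.t c' x
        rw [← A.apply_symm_apply x, ← hA, g.symm_apply_apply, (S.sg_rad hc hf hk₀).1]
      · have h1 : S.P c (g.symm v) = 0 := by
          rw [← hP, g.apply_symm_apply, hv, map_zero]
        obtain ⟨a, ha⟩ := (S.sg_rad hc hf hk₀).2 _ h1
        refine ⟨A a, ?_⟩
        show g (s (g.symm v)) - v = _
        rw [← hA, ← ha, map_sub, g.apply_symm_apply]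
    obtain ⟨k, hk⟩ := S.rad_scalar hM hS hc'0 hc' hce₂ hu hrad hf₂
    refine ⟨k / μ, fun z => ?_⟩
    have h := hk (A z)
    have h1 : S.P c (g.symm (S.t e₂ (A z))) = μ • z := by
      rw [← hP, g.apply_symm_apply, S.P_pure, hec₂, one_smul, hAαA]
    have h2 : (g * s * g⁻¹) (S.t e₂ (A z)) - S.t e₂ (A z) =
        g (s (g.symm (S.t e₂ (A z))) - g.symm (S.t e₂ (A z))) := by
      rw [map_sub, g.apply_symm_apply]; rfl
    rw [h2, hs, S.sg_apply, h1, add_assoc, add_sub_cancel_left, map_add, map_add, hA, S.P_pure,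
      S.H.eq_zero_symm hf₂, zero_smul, add_zero, map_smul, map_smul, map_smul] at h
    rw [div_eq_inv_mul, ← smul_smul, ← h, smul_smul, inv_mul_cancel₀ hμ0, one_smul]
  obtain ⟨b, d, hb, -⟩ := S.H.exists_dual_basis
  obtain ⟨y0, hy0⟩ := S.K.exists_one (x := A x0) (by simpa using hx0)
  let T₀ : W →ₗ[F] W :=
    ∑ i, (S.K.lin y0 ∘ₗ S.P (d i - S.H.B (d i) c' • e₂) ∘ₗ g.toLinearMap ∘ₗ S.t.flip x0).smulRight (b i)
  have hd' : ∀ i, S.H.B (d i - S.H.B (d i) c' • e₂) c' = 0 := fun i => by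
    rw [S.H.sub_left, S.H.smul_left, hec₂, mul_one, sub_self]
  have hgf : ∀ f, S.H.B f c = 0 → ∀ z, g (S.t f z) = S.t (T₀ f) (A z) + S.t c' (S.P e₂ (g (S.t f z))) := by
    intro f hf z
    conv_lhs => rw [S.decomp_split hb c' e₂ (g (S.t f z))]
    congr 1
    choose k hk using fun i => hmain f hf _ (hd' i)
    have hT : T₀ f = ∑ i, k i • b i := by
      show (∑ i, _ : W →ₗ[F] W) f = _
      rw [LinearMap.sum_apply]
      refine Finset.sum_congr rfl fun i _ => ?_
      show S.K.B (S.P _ (g (S.t f x0))) y0 • b i = _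
      rw [hk, S.K.smul_left, hy0, mul_one]
    simp only [hk, map_smul]
    rw [hT, map_sum, LinearMap.sum_apply]
    simp only [map_smul, LinearMap.smul_apply]
  have hTc : ∀ f, S.H.B f c = 0 → S.H.B (T₀ f) c' = 0 := by
    intro f hf
    have h1 : S.P c' (g (S.t f x0)) = 0 := by
      have h2 := hP (g.symm (g (S.t f x0)))
      rw [g.apply_symm_apply, g.symm_apply_apply, S.P_pure, hf, zero_smul] at h2
      have h3 := congrArg A h2
      rw [hμ, map_zero] at h3
      exact (smul_eq_zero.1 h3).resolve_left hμ0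
    rw [hgf f hf x0, map_add, S.P_pure, S.P_pure, hc', zero_smul, add_zero] at h1
    exact (smul_eq_zero.1 h1).resolve_right (by simpa using hx0)
  have hTT : ∀ f f', S.H.B f c = 0 → S.H.B f' c = 0 → S.H.B (T₀ f) (T₀ f') * μ = S.H.B f f' := by
    intro f f' hf hf'
    obtain ⟨y, hy⟩ := S.K.exists_one hx0
    have h := hgi (S.t f x0) (S.t f' y)
    rw [hgf f hf x0, hgf f' hf' y, S.Ω.add_left, S.Ω.add_right, S.Ω.add_right, S.ω_pure, S.ω_pure, S.ω_pure,
      S.ω_pure, S.ω_pure, hTc f hf, S.H.eq_zero_symm (hTc f' hf'), hc', hAA, hy] at h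
    linear_combination h
  obtain ⟨m₀, hm₀⟩ : ∃ m : F, T₀ c = m • c' := by
    refine ⟨S.H.B (T₀ c) e₂, S.H.ext_left fun u => ?_⟩
    have h1 := congrArg (S.P (u - S.H.B u c' • e₂)) (hgf c hc x0)
    rw [hA, map_add, S.P_pure, S.P_pure, S.P_pure, S.H.sub_right, S.H.smul_right, S.H.conj, hce₂, mul_one,
      sub_self, zero_smul, zero_smul, add_zero, eq_comm, smul_eq_zero] at h1
    have h2 := h1.resolve_right (by simpa using hx0)
    rw [S.H.sub_right, S.H.smul_right, S.H.conj] at h2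
    rw [S.H.smul_left]
    linear_combination h2
  let π : W →ₗ[F] W := LinearMap.id - (S.H.lin e).smulRight c - (S.H.lin c).smulRight e
  have hπ : ∀ w, π w = w - S.H.B w e • c - S.H.B w c • e := fun w => rfl
  have hπc : ∀ w, S.H.B (π w) c = 0 := fun w => by
    rw [hπ, S.H.sub_left, S.H.sub_left, S.H.smul_left, S.H.smul_left, hc, hec]; ring
  have hπe : ∀ w, S.H.B (π w) e = 0 := fun w => by
    rw [hπ, S.H.sub_left, S.H.sub_left, S.H.smul_left, S.H.smul_left, hee, hce]; ring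
  let T₁ : W →ₗ[F] W := T₀ ∘ₗ π - (S.H.lin e₂ ∘ₗ T₀ ∘ₗ π).smulRight c' + (S.H.lin e).smulRight c' +
    μ⁻¹ • (S.H.lin c).smulRight e₂
  have hT₁ : ∀ w, T₁ w = T₀ (π w) - S.H.B (T₀ (π w)) e₂ • c' + S.H.B w e • c' + μ⁻¹ • (S.H.B w c • e₂) :=
    fun w => rfl
  have hT₁μ : ∀ w u, S.H.B (T₁ w) (T₁ u) * μ = S.H.B w u := by
    intro w u
    have h1 := hTT _ _ (hπc w) (hπc u)
    have h2 : S.H.B w u = S.H.B (π w) (π u) + S.H.B w e * S.H.B c u + S.H.B w c * S.H.B e u := by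
      rw [hπ u, S.H.sub_right, S.H.sub_right, S.H.smul_right, S.H.smul_right, hπc, hπe, hπ w, S.H.sub_left,
        S.H.sub_left, S.H.smul_left, S.H.smul_left]
      ring
    rw [h2, ← h1]
    simp only [hT₁, S.H.add_left, S.H.add_right, S.H.sub_left, S.H.sub_right, S.H.smul_left, S.H.smul_right,
      hTc _ (hπc w), S.H.eq_zero_symm (hTc _ (hπc u)), hc', he₂, hce₂, hec₂, map_inv₀, hμr, S.H.conj]
    field_simp
    ring
  have hT₁i : Function.Injective T₁ := (injective_iff_map_eq_zero T₁).2 fun w hw => S.H.nd w fun u => by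
    rw [← hT₁μ, hw, S.H.zero_left, zero_mul]
  let Te := LinearEquiv.ofInjectiveEndo T₁ hT₁i
  set D := S.tens Te A with hD
  have hDi : S.IsIso D := S.tens_iso fun w u x y => by
    show S.H.B (T₁ w) (T₁ u) * _ = _
    rw [hAA, ← mul_assoc, hT₁μ]
  have hT₁c : T₁ c = c' := by
    rw [hT₁, show π c = 0 by rw [hπ, hce, hc]; simp, map_zero, S.H.zero_left, hce, hc]
    simp
  have hDc : ∀ x, D (S.t c x) = S.t c' (A x) := fun x => by
    rw [hD, S.tens_pure]
    show S.t (T₁ c) (A x) = _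
    rw [hT₁c]
  set g1 := D⁻¹ * g with hg1
  have hr1 : S.Rad c g1 := by
    refine ⟨fun x => ?_, fun v hv => ?_⟩
    · show D.symm (g (S.t c x)) = S.t c x
      rw [hA, ← hDc, D.symm_apply_apply]
    · suffices h : ((g1 : V →ₗ[F] V) - 1) v ∈ LinearMap.range (S.t c) by
        obtain ⟨a, ha⟩ := h; exact ⟨a, ha.symm⟩
      refine S.kerP_mem hec _ _ (fun f x hf => ?_) hv
      obtain ⟨m, hm⟩ : ∃ m : F, T₁ f = T₀ f + m • c' := by
        refine ⟨-(S.H.B f e * m₀) - S.H.B (T₀ (π f)) e₂ + S.H.B f e, ?_⟩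
        rw [hT₁, hf, hπ f, hf, zero_smul, sub_zero, map_sub, map_smul, hm₀]
        module
      refine ⟨A.symm (S.P e₂ (g (S.t f x)) - m • A x), ?_⟩
      rw [LinearMap.sub_apply, Module.End.one_apply, LinearEquiv.coe_coe]
      apply D.injective
      rw [hDc, A.apply_symm_apply, map_sub D, show D (g1 (S.t f x)) = g (S.t f x) from D.apply_symm_apply _, hD,
        S.tens_pure]
      show _ = _ - S.t (T₁ f) (A x)
      conv_rhs => rw [hgf f hf x, hm, map_add, LinearMap.add_apply, map_smul, LinearMap.smul_apply]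
      rw [map_sub, map_smul]
      abel
  have hg1i : S.IsIso g1 := (Sys.IsIso.inv S hDi).mul S hgi
  have hDM : D ∈ M := by
    refine hM.dec _ hDi ?_ (S.tens_dec _ _)
    have h1 : LinearEquiv.det g = LinearEquiv.det D * LinearEquiv.det g1 := by
      rw [← map_mul, hg1, mul_inv_cancel_left]
    rwa [hM.det _ hg, S.rad_det hc hr1 hg1i, mul_one, eq_comm] at h1
  have hg1M : g1 ∈ M := M.mul_mem (M.inv_mem hDM) hg
  choose k hk using fun i => S.rad_scalar hM hS hc0 hc hce hg1M hr1 (f := d i - S.H.B (d i) c • e)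
    (by rw [S.H.sub_left, S.H.smul_left, hec, mul_one, sub_self])
  set f₀ := ∑ i, k i • b i with hf₀
  let Φ : X →ₗ[F] V := ((g1 : V →ₗ[F] V) - 1) ∘ₗ S.t e
  have hΦ : ∀ z, g1 (S.t e z) - S.t e z = S.t f₀ z + S.t c (S.P e (Φ z)) := fun z => by
    conv_lhs => rw [S.decomp_split hb c e (g1 (S.t e z) - S.t e z)]
    simp only [hk, map_smul]
    rw [hf₀, map_sum, LinearMap.sum_apply]
    simp only [map_smul, LinearMap.smul_apply]
    rfl
  have hf₀c : S.H.B f₀ c = 0 := by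
    have h1 : S.P c (g1 (S.t e x0) - S.t e x0) = 0 := by rw [map_sub, S.rad_P hr1 hg1i, sub_self]
    rw [hΦ, map_add, S.P_pure, S.P_pure, hc, zero_smul, add_zero] at h1
    exact (smul_eq_zero.1 h1).resolve_right hx0
  obtain ⟨k₀, hk₀⟩ := S.H.exists_trace (-S.H.B f₀ f₀) (by rw [map_neg, S.H.conj])
  set s := S.sg c f₀ k₀ hc hf₀c hk₀ with hs
  set K' := S.P e ∘ₗ Φ - (k₀ - S.H.B e f₀) • LinearMap.id with hK'
  have hfac : g1 = S.up c hc K' * s := by
    refine LinearEquiv.ext fun v => ?_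
    show g1 v = _
    conv_rhs => rw [LinearEquiv.mul_apply, S.up_apply]
    rw [S.rad_P (S.sg_rad hc hf₀c hk₀) (hM.iso _ (S.sg_mem hM hc hf₀c hk₀))]
    set z := S.P c v with hz
    have hv0 : S.P c (v - S.t e z) = 0 := by rw [map_sub, S.P_pure, hec, one_smul, sub_self]
    obtain ⟨a, ha⟩ := hr1.2 _ hv0
    have ha' : a = -S.P f₀ (v - S.t e z) := S.K.ext_left fun y => by
      have h1 := S.rad_form hce hr1 hg1i hv0 y
      rw [ha, S.P_pure, hce, one_smul, hΦ, S.Ω.add_right, ← S.P_B, ← S.P_B, hv0, S.K.zero_left, add_zero] at h1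
      rw [h1, S.K.neg_left]
    have h2 : g1 v = v + S.t c a + (S.t f₀ z + S.t c (S.P e (Φ z))) := by
      rw [← hΦ, ← ha, map_sub]; abel
    rw [h2, ha', hs, S.sg_apply, ← hz, hK', LinearMap.sub_apply, LinearMap.comp_apply, LinearMap.smul_apply,
      LinearMap.id_apply, map_sub (S.P f₀), S.P_pure]
    simp only [map_add, map_sub, map_neg, map_smul, sub_smul]
    abel
  have hup : S.up c hc K' ∈ M := by
    rw [show S.up c hc K' = g1 * s⁻¹ by rw [hfac, mul_inv_cancel_right]]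
    exact M.mul_mem hg1M (M.inv_mem (S.sg_mem hM hc hf₀c hk₀))
  obtain ⟨κ, hκ⟩ := hS c hc0 hc _ hup
  have : g = D * (S.up c hc (κ • LinearMap.id) * s) := by rw [← hκ, ← hfac, hg1, mul_inv_cancel_left]
  rw [this]
  exact (S.tens_dec _ _).mul S ((S.dec_up_scalar hc κ).mul S (S.tens_dec _ _))

/-- An element of `M` commuting with a scalar element at `c` is decomposable. -/
theorem dec_of_commute (hM : S.Over M) (hS : S.Small M) {g : V ≃ₗ[F] V} (hg : g ∈ M) {c : W} (hc0 : c ≠ 0)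
    (hc : S.H.B c c = 0) {δ : F} (hδ : δ ≠ 0)
    (h : Commute g (S.up c hc (δ • LinearMap.id))) : S.Dec g := by
  refine S.line hM hS hg hc0 hc hc0 fun x => ?_
  obtain ⟨e, he⟩ := S.exists_H_one hc0
  refine ⟨δ • S.P c (g (S.t e (δ⁻¹ • x))), ?_⟩
  have h1 := LinearEquiv.congr_fun h.eq (S.t e (δ⁻¹ • x))
  rw [LinearEquiv.mul_apply, LinearEquiv.mul_apply, S.up_apply, S.up_apply, S.P_pure, he, one_smul, map_add] at h1
  rw [LinearMap.smul_apply, LinearMap.id_apply, LinearMap.smul_apply, LinearMap.id_apply, smul_smul,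
    mul_inv_cancel₀ hδ, one_smul] at h1
  exact add_left_cancel h1

end Sys

end Cfsg.Agent.H58.TensorUnit3
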