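import Cfsg.Agent.H58.TensorUnit3.RootsFull

/-!
Three by two: a non-scalar element at a singular factor space gives all transvections, when the fixed field has
at least three elements.
-/

set_option autoImplicit false
set_option maxHeartbeats 1000000
set_option linter.style.haveILetI false
set_option linter.unusedSectionVars false

namespace Cfsg.Agent.H58.TensorUnit3

open Module

variable {F : Type*} [Field F] [Finite F] {σ : F ≃+* F} {V W X : Type*}
  [AddCommGroup V] [Module F V] [FiniteDimensional F V]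
  [AddCommGroup W] [Module F W] [FiniteDimensional F W]
  [AddCommGroup X] [Module F X] [FiniteDimensional F X]

namespace Herm

variable (h : Herm F σ X)

theorem skew_dyad {s : F} (hs : σ s = -s) (u : X) : h.Skew (s • h.dyad u u) := fun p q => by
  simp only [LinearMap.smul_apply, Herm.dyad_apply, h.smul_left, h.smul_right, hs, h.conj]
  ring

/-- An anisotropic vector orthogonal to a hyperbolic line. -/
theorem exists_aniso_mid (hX : 3 ≤ finrank F X) {c e : X} (hcc : h.B c c = 0) (hee : h.B e e = 0)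
    (hce : h.B c e = 1) : ∃ g ∈ h.mid c e, ∃ N : F, h.B g g = N ∧ N ≠ 0 := by
  have hec := h.eq_one_symm hce
  obtain ⟨g, hg, hg0⟩ := Submodule.exists_mem_ne_zero_of_ne_bot (p := h.mid c e) (fun h0 => by
    have := h.finrank_mid c e
    rw [h0, finrank_bot] at this
    omega)
  by_cases hgg : h.B g g = 0
  swap
  · exact ⟨g, hg, _, rfl, hgg⟩
  obtain ⟨hgv, hge⟩ := h.mem_mid.1 hg
  obtain ⟨u, hu⟩ := h.exists_one hg0
  set u' := u - h.B u e • c - h.B u c • e with hu'
  have a1 : h.B u' c = 0 := by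
    rw [hu', h.sub_left, h.sub_left, h.smul_left, h.smul_left, hcc, hec]; ring
  have a2 : h.B u' e = 0 := by
    rw [hu', h.sub_left, h.sub_left, h.smul_left, h.smul_left, hee, hce]; ring
  have a3 : h.B g u' = 1 := by
    rw [hu', h.sub_right, h.sub_right, h.smul_right, h.smul_right, hgv, hge, hu]; ring
  by_cases huu : h.B u' u' = 0
  swap
  · exact ⟨u', h.mem_mid.2 ⟨a1, a2⟩, _, rfl, huu⟩
  obtain ⟨ρ, hρ⟩ := h.exists_trace 1 (map_one σ)
  refine ⟨g + ρ • u', (h.mid c e).add_mem hg ((h.mid c e).smul_mem ρ (h.mem_mid.2 ⟨a1, a2⟩)), 1, ?_, one_ne_zero⟩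
  rw [h.add_left, h.add_right, h.add_right, h.smul_left, h.smul_left, h.smul_right, h.smul_right,
    hgg, huu, a3, h.eq_one_symm a3]
  linear_combination hρ

theorem decomp_two (hX : finrank F X = 2) {v e : X} (hvv : h.B v v = 0) (hee : h.B e e = 0) (hve : h.B v e = 1)
    (x : X) : x = h.B x e • v + h.B x v • e := by
  have hev := h.eq_one_symm hve
  have hspan : Submodule.span F (Set.range ![v, e]) = ⊤ := by
    refine LinearIndependent.span_eq_top_of_card_eq_finrank ?_ (by rw [Fintype.card_fin, hX])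
    rw [Fintype.linearIndependent_iff]
    intro q hq
    simp only [Fin.sum_univ_two, Matrix.cons_val_zero, Matrix.cons_val_one] at hq
    have h1 := congrArg (fun w => h.B w e) hq
    have h2 := congrArg (fun w => h.B w v) hq
    simp only [h.add_left, h.smul_left, h.zero_left, hvv, hee, hve, hev, mul_zero, mul_one, zero_add, add_zero] at h1 h2
    intro i
    fin_cases i
    exacts [h1, h2]
  refine h.ext_left fun p => ?_
  have hp : p ∈ Submodule.span F (Set.range ![v, e]) := hspan ▸ Submodule.mem_top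
  induction hp using Submodule.span_induction with
  | mem z hz =>
    obtain ⟨i, rfl⟩ := hz
    fin_cases i <;> simp [h.add_left, h.smul_left, hvv, hee, hve, hev]
  | zero => simp
  | add p r _ _ hp hr => rw [h.add_right, h.add_right, hp, hr]
  | smul r p _ hp => rw [h.smul_right, h.smul_right, hp]

theorem eq_smul_of_mid (hX : finrank F X = 3) {c e g z : X} (hcc : h.B c c = 0) (hee : h.B e e = 0)
    (hce : h.B c e = 1) (hg : g ∈ h.mid c e) {N : F} (hN : h.B g g = N) (hN0 : N ≠ 0) (hz : z ∈ h.mid c e) :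
    z = (h.B z g / N) • g := by
  obtain ⟨hgc, hge⟩ := h.mem_mid.1 hg
  obtain ⟨hzc, hze⟩ := h.mem_mid.1 hz
  have hec := h.eq_one_symm hce
  have hcg := h.eq_zero_symm hgc
  have heg := h.eq_zero_symm hge
  have hspan : Submodule.span F (Set.range ![c, e, g]) = ⊤ := by
    refine LinearIndependent.span_eq_top_of_card_eq_finrank ?_ (by rw [Fintype.card_fin, hX])
    rw [Fintype.linearIndependent_iff]
    intro q hq
    simp only [Fin.sum_univ_three, Matrix.cons_val_zero, Matrix.cons_val_one, Matrix.cons_val] at hq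
    have h0 := congrArg (fun w => h.B w e) hq
    have h1 := congrArg (fun w => h.B w c) hq
    have h2 := congrArg (fun w => h.B w g) hq
    simp only [h.add_left, h.smul_left, h.zero_left, hcc, hee, hce, hec, hgc, hge, hcg, heg, hN, mul_zero, mul_one,
      zero_add, add_zero] at h0 h1 h2
    intro i
    fin_cases i
    exacts [h0, h1, (mul_eq_zero.1 h2).resolve_right hN0]
  refine h.ext_left fun p => ?_
  have hp : p ∈ Submodule.span F (Set.range ![c, e, g]) := hspan ▸ Submodule.mem_top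
  induction hp using Submodule.span_induction with
  | mem w hw =>
    obtain ⟨i, rfl⟩ := hw
    fin_cases i <;> simp [h.smul_left, hzc, hze, hgc, hge, hN, hN0]
  | zero => simp
  | add p r _ _ hp hr => rw [h.add_right, h.add_right, hp, hr]
  | smul r p _ hp => rw [h.smul_right, h.smul_right, hp]

end Herm

namespace Sys

variable (S : Sys F σ V W X) {M : Subgroup (V ≃ₗ[F] V)}

/-- Moving a singular vector to its partner. -/
theorem up_swap (hM : S.Over M) {c e : W} (hc : S.H.B c c = 0) (he : S.H.B e e = 0) (hce : S.H.B c e = 1)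
    {A : X →ₗ[F] X} (hA : S.up c hc A ∈ M) {ν : F} (hν0 : ν ≠ 0) (hν : σ ν = -ν) :
    S.up e he ((-(ν * ν)) • A) ∈ M := by
  have hu : S.H.B (c + ν • e) (c + ν • e) = 0 := by
    rw [S.H.add_left, S.H.add_right, S.H.add_right, S.H.smul_left, S.H.smul_left, S.H.smul_right, S.H.smul_right,
      hc, he, hce, S.H.eq_one_symm hce, hν]
    ring
  have hl : σ ν⁻¹ = -ν⁻¹ := by rw [map_inv₀, hν, inv_neg]
  have h1 := S.up_transport hM (S.H.tv_unipotent ν⁻¹ hu) (S.H.tv_iso hl hu) hc hA
  have h2 : S.H.tv ν⁻¹ (c + ν • e) hu c = (-ν) • e := by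
    rw [S.H.tv_apply, S.H.add_right, S.H.smul_right, hc, hce, hν]
    match_scalars <;> field_simp <;> ring
  simp only [h2] at h1
  convert h1 using 1
  refine LinearEquiv.ext fun p => ?_
  simp only [S.up_apply, S.P_smul, map_smul, LinearMap.smul_apply, smul_smul, map_neg, hν]
  congr 2
  ring

/-- Real multiples. -/
theorem up_real_smul (hM : S.Over M) {c e : W} (hc : S.H.B c c = 0) (he : S.H.B e e = 0) (hce : S.H.B c e = 1)
    {A : X →ₗ[F] X} (hA : S.up c hc A ∈ M) {r : F} (hr : σ r = r) : S.up c hc (r • A) ∈ M := by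
  obtain ⟨δ, hδ0, hδ⟩ := S.H.exists_skew
  have hsq : ∀ s : F, σ s = s → S.up c hc ((s * s) • A) ∈ M := fun s hs => by
    rcases eq_or_ne s 0 with rfl | hs0
    · rw [mul_zero, zero_smul, S.up_zero]; exact M.one_mem
    have h1 := S.up_swap hM he hc (S.H.eq_one_symm hce) (S.up_swap hM hc he hce hA hδ0 hδ)
      (div_ne_zero hs0 hδ0) (show σ (s / δ) = -(s / δ) by rw [map_div₀, hs, hδ, div_neg])
    rw [smul_smul] at h1
    convert h1 using 3
    field_simp
  by_cases h2 : (2 : F) = 0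
  · haveI := CharTwo.of_one_ne_zero_of_two_eq_zero (one_ne_zero (α := F)) h2
    obtain ⟨s, hs⟩ := FiniteField.isSquare_of_char_two (ringChar.eq F 2) r
    have hσs : σ s = s := by
      have h3 : σ r = σ s * σ s := by rw [hs, map_mul]
      rw [hr] at h3
      refine sub_eq_zero.1 (mul_self_eq_zero.1 ?_)
      linear_combination -h3 + hs + (s * s - s * σ s) * h2
    rw [hs]; exact hsq s hσs
  have h1 := hsq ((r + 1) / 2) (by rw [map_div₀, map_add, hr, map_one, map_ofNat])
  have h3 := hsq ((r - 1) / 2) (by rw [map_div₀, map_sub, hr, map_one, map_ofNat])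
  have h4 := (S.radGrp M c hc).sub_mem ((S.mem_radGrp hc).2 h1) ((S.mem_radGrp hc).2 h3)
  rw [S.mem_radGrp hc, ← sub_smul] at h4
  convert h4 using 3
  field_simp
  ring

/-- The element of the partner. -/
theorem up_partner (hM : S.Over M) {c e : W} (hc : S.H.B c c = 0) (he : S.H.B e e = 0) (hce : S.H.B c e = 1)
    {A : X →ₗ[F] X} (hA : S.up c hc A ∈ M) : S.up e he A ∈ M := by
  obtain ⟨δ, hδ0, hδ⟩ := S.H.exists_skew
  have h1 := S.up_real_smul hM he hc (S.H.eq_one_symm hce) (S.up_swap hM hc he hce hA hδ0 hδ)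
    (show σ (-(δ * δ))⁻¹ = (-(δ * δ))⁻¹ by rw [map_inv₀, map_neg, map_mul, hδ, neg_mul_neg])
  rwa [smul_smul, inv_mul_cancel₀ (neg_ne_zero.2 (mul_ne_zero hδ0 hδ0)), one_smul] at h1

/-- A non-scalar element gives all isotropic dyads, on a plane. -/
theorem dyads_mem (hM : S.Over M) (hX : finrank F X = 2) (hex : ∃ r : F, σ r = r ∧ r ≠ 0 ∧ r ≠ 1) {c e : W}
    (hc0 : c ≠ 0) (hc : S.H.B c c = 0) (he : S.H.B e e = 0) (hce : S.H.B c e = 1) {A₀ : X →ₗ[F] X}
    (hA₀ : S.up c hc A₀ ∈ M) (hns : ∀ k : F, A₀ ≠ k • LinearMap.id) :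
    ∀ u : X, S.K.B u u = 0 → ∀ s : F, σ s = -s → S.up c hc (s • S.K.dyad u u) ∈ M := by
  set R := S.radGrp M c hc with hR
  have hskew := S.radGrp_skew hM hc0 hc hA₀
  obtain ⟨v, hvv, hκ⟩ : ∃ v, S.K.B v v = 0 ∧ S.K.B (A₀ v) v ≠ 0 := by
    by_contra hcon
    push Not at hcon
    obtain ⟨k, hk⟩ := S.K.scalar_of_iso (by omega) hskew hcon
    exact hns k hk
  have hv0 : v ≠ 0 := fun h => hκ (by rw [h, S.K.zero_right])
  set w := A₀ v with hw
  set κ := S.K.B w v with hκdef
  have hσκ : σ κ = -κ := hskew.self S.K v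
  let B : F → (X →ₗ[F] X) := fun l =>
    (-l) • (S.K.dyad w v + S.K.dyad v w) + (-(l * l * κ)) • S.K.dyad v v
  have hB : ∀ l, σ l = -l → B l ∈ R := fun l hl => by
    have h1 := S.up_conj_mem hM (S.K.tv_unipotent l hvv) (S.K.tv_iso hl hvv) hc hA₀
    have h2 : B l = (S.K.tv l v hvv).toLinearMap ∘ₗ A₀ ∘ₗ (S.K.tv l v hvv).symm.toLinearMap - A₀ :=
      LinearMap.ext fun x => (S.diff_tv hskew l hvv x).symm
    rw [h2]
    exact R.sub_mem ((S.mem_radGrp hc).2 h1) ((S.mem_radGrp hc).2 hA₀)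
  obtain ⟨δ, hδ0, hδ⟩ := S.H.exists_skew
  obtain ⟨s₀, hs₀0, hs₀σ, hs₀⟩ : ∃ s₀ : F, s₀ ≠ 0 ∧ σ s₀ = -s₀ ∧ s₀ • S.K.dyad v v ∈ R := by
    by_cases h2 : (2 : F) = 0
    swap
    · refine ⟨-((2 : F) * (δ * δ * κ)), neg_ne_zero.2 (mul_ne_zero h2 (mul_ne_zero (mul_ne_zero hδ0 hδ0) hκ)),
        by rw [map_neg, map_mul, map_mul, map_mul, map_ofNat, hδ, hσκ]; ring, ?_⟩
      have h1 := R.sub_mem (R.sub_mem (hB (δ + δ) (by rw [map_add, hδ]; ring)) (hB δ hδ)) (hB δ hδ)
      convert h1 using 1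
      simp only [B]
      module
    have hneg : ∀ r : F, -r = r := fun r => by linear_combination (-r) * h2
    obtain ⟨e₁, he₁, hve₁⟩ := S.K.exists_partner hv0 hvv
    set τ := S.K.B w e₁ + σ (S.K.B w e₁) with hτ
    have hτσ : σ τ = τ := by rw [hτ, map_add, S.K.inv, add_comm]
    have hκr : σ κ = κ := by rw [hσκ, hneg]
    have hsum : S.K.dyad w v + S.K.dyad v w = κ • LinearMap.id + τ • S.K.dyad v v := LinearMap.ext fun x => by
      simp only [LinearMap.add_apply, LinearMap.smul_apply, LinearMap.id_apply, Herm.dyad_apply]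
      have hwd := S.K.decomp_two hX hvv he₁ hve₁ w
      rw [← hκdef] at hwd
      conv_rhs => arg 1; rw [S.K.decomp_two hX hvv he₁ hve₁ x]
      conv_lhs => rw [hwd]
      rw [S.K.add_right, S.K.smul_right, S.K.smul_right, hκr, hτ]
      module
    obtain ⟨r, hr, hr0, hr1⟩ := hex
    obtain ⟨l, hl, hl0, hlne⟩ : ∃ l : F, σ l = l ∧ l ≠ 0 ∧ κ * l + τ ≠ 0 := by
      by_cases h1 : κ * 1 + τ = 0
      · refine ⟨r, hr, hr0, fun h => hr1 ?_⟩
        exact mul_left_cancel₀ hκ (by linear_combination h - h1)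
      · exact ⟨1, map_one σ, one_ne_zero, h1⟩
    refine ⟨-(l * (κ * l + τ)), neg_ne_zero.2 (mul_ne_zero hl0 hlne),
      by rw [hneg, hneg, map_mul, map_add, map_mul, hl, hκr, hτσ], ?_⟩
    have h1 := R.add_mem (hB l (by rw [hneg]; exact hl))
      ((S.mem_radGrp hc).2 (S.up_scalar_mem hM hc0 hc (k := l * κ) (by rw [hneg, map_mul, hl, hκr])))
    convert h1 using 1
    simp only [B, hsum]
    module
  refine fun u huu => ?_
  by_cases hu0 : u = 0
  · intro s _
    have : s • S.K.dyad u u = 0 := LinearMap.ext fun z => by simp [Herm.dyad_apply, hu0]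
    rw [this, S.up_zero]; exact M.one_mem
  refine S.K.iso_induct hv0 hvv (p := fun u => ∀ s : F, σ s = -s → S.up c hc (s • S.K.dyad u u) ∈ M)
    (fun s hs => ?_) (fun k x _ _ _ hp s hs => ?_) (fun l y hy x hl _ _ hp s hs => ?_) u hu0 huu
  · have h1 := S.up_real_smul hM hc he hce ((S.mem_radGrp hc).1 hs₀)
      (show σ (s / s₀) = s / s₀ by rw [map_div₀, hs, hs₀σ, neg_div_neg_eq])
    rwa [smul_smul, div_mul_cancel₀ _ hs₀0] at h1
  · rw [S.K.dyad_smul_left, S.K.dyad_smul_right, smul_smul, smul_smul]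
    exact hp _ (by rw [map_mul, map_mul, hs, S.K.inv]; ring)
  · have h1 := S.up_conj_mem hM (S.K.tv_unipotent l hy) (S.K.tv_iso hl hy) hc (hp s hs)
    rwa [LinearMap.smul_comp, LinearMap.comp_smul, S.K.dyad_conj (S.K.tv_iso hl hy)] at h1

/-- The Weyl element of an invertible skew map. -/
theorem weyl (hM : S.Over M) {c e : W} (hc : S.H.B c c = 0) (he : S.H.B e e = 0) (hce : S.H.B c e = 1)
    {A A' : X →ₗ[F] X} (hA : S.up c hc A ∈ M) (hA' : S.up e he A' ∈ M) (h1 : ∀ x, A (A' x) = -x)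
    (h2 : ∀ x, A' (A x) = -x) :
    ∃ u ∈ M, (∀ x, u (S.t c x) = S.t e (A' x)) ∧ (∀ x, u (S.t e x) = S.t c (A x)) ∧
      ∀ f x, S.H.B f c = 0 → S.H.B f e = 0 → u (S.t f x) = S.t f x := by
  have hec := S.H.eq_one_symm hce
  refine ⟨S.up c hc A * S.up e he A' * S.up c hc A, M.mul_mem (M.mul_mem hA hA') hA, fun x => ?_, fun x => ?_,
    fun f x hf hf' => ?_⟩
  · simp only [LinearEquiv.mul_apply, S.up_apply, map_add, S.P_pure, hc, he, hce, hec, zero_smul, one_smul,
      map_zero, add_zero, zero_add, h1, map_neg]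
    abel
  · simp only [LinearEquiv.mul_apply, S.up_apply, map_add, S.P_pure, hc, he, hce, hec, zero_smul, one_smul,
      map_zero, add_zero, zero_add, h2, map_neg, LinearMap.neg_apply]
    simp [S.P_pure, hc, he, hce, hec]
  · simp only [LinearEquiv.mul_apply, S.up_apply, map_add, S.P_pure, hf, hf', zero_smul, map_zero, add_zero]

/-- The Levi element of an isotropic dyad. -/
theorem exists_levi (hM : S.Over M) {c e : W} (hc : S.H.B c c = 0) (he : S.H.B e e = 0) (hce : S.H.B c e = 1)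
    (hdy : ∀ u : X, S.K.B u u = 0 → ∀ s : F, σ s = -s → S.up c hc (s • S.K.dyad u u) ∈ M)
    {u : X} (huu : S.K.B u u = 0) :
    ∃ L ∈ M, (∀ x, L (S.t c x) = -S.t c (x + S.K.B x u • u)) ∧ (∀ x, L (S.t e x) = -S.t e (x - S.K.B x u • u)) ∧
      ∀ f x, S.H.B f c = 0 → S.H.B f e = 0 → L (S.t f x) = S.t f x := by
  have hc0 : c ≠ 0 := fun h => by rw [h, S.H.zero_left] at hce; exact zero_ne_one hce
  have he0 : e ≠ 0 := fun h => by rw [h, S.H.zero_right] at hce; exact zero_ne_one hce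
  obtain ⟨δ, hδ0, hδ⟩ := S.H.exists_skew
  have hδi : σ δ⁻¹ = -δ⁻¹ := by rw [map_inv₀, hδ, inv_neg]
  set D := S.K.dyad u u with hD
  have hDD : ∀ x, D (D x) = 0 := fun x => by
    simp [hD, Herm.dyad_apply, S.K.smul_left, huu]
  have hA : S.up c hc (δ • LinearMap.id + δ • D) ∈ M := by
    rw [← S.up_add]
    exact M.mul_mem (S.up_scalar_mem hM hc0 hc hδ) (hdy u huu δ hδ)
  have hA' : S.up e he ((-δ⁻¹) • LinearMap.id + δ⁻¹ • D) ∈ M := by
    rw [← S.up_add]
    exact M.mul_mem (S.up_scalar_mem hM he0 he (by rw [map_neg, hδi]))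
      (S.up_partner hM hc he hce (hdy u huu _ hδi))
  obtain ⟨w₁, hw₁, hc1, he1, hf1⟩ := S.weyl hM hc he hce hA hA' (fun x => by
      simp only [LinearMap.add_apply, LinearMap.smul_apply, LinearMap.id_apply, map_add, map_smul, hDD]
      match_scalars <;> field_simp <;> ring) (fun x => by
      simp only [LinearMap.add_apply, LinearMap.smul_apply, LinearMap.id_apply, map_add, map_smul, hDD]
      match_scalars <;> field_simp <;> ring)
  obtain ⟨w₀, hw₀, hc0', he0', hf0⟩ := S.weyl hM hc he hce (S.up_scalar_mem hM hc0 hc hδ)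
    (S.up_scalar_mem hM he0 he (k := -δ⁻¹) (by rw [map_neg, hδi])) (fun x => by simp [hδ0]) (fun x => by simp [hδ0])
  refine ⟨w₁ * w₀, M.mul_mem hw₁ hw₀, fun x => ?_, fun x => ?_, fun f x h h' => ?_⟩
  · rw [LinearEquiv.mul_apply, hc0', he1, ← map_neg]
    congr 1
    simp only [LinearMap.add_apply, LinearMap.smul_apply, LinearMap.id_apply, map_smul, hD, Herm.dyad_apply]
    match_scalars <;> field_simp
  · rw [LinearEquiv.mul_apply, he0', hc1, ← map_neg]
    congr 1
    simp only [LinearMap.add_apply, LinearMap.smul_apply, LinearMap.id_apply, map_smul, hD, Herm.dyad_apply]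
    match_scalars <;> field_simp
  · rw [LinearEquiv.mul_apply, hf0 f x h h', hf1 f x h h']

/-- Cross elements at a vector of the middle with arbitrary linear part. -/
theorem cross_all (hM : S.Over M) {c e g : W} (hc : S.H.B c c = 0) (he : S.H.B e e = 0) (hce : S.H.B c e = 1)
    (hg : g ∈ S.H.mid c e) (hX : finrank F X = 2)
    (hdy : ∀ u : X, S.K.B u u = 0 → ∀ s : F, σ s = -s → S.up c hc (s • S.K.dyad u u) ∈ M) (C : X →ₗ[F] X) :
    ∃ u ∈ M, S.Rad c u ∧ ∀ x, ∃ a, u (S.t e x) = S.t e x + S.t g (C x) + S.t c a := by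
  obtain ⟨hgc, hge⟩ := S.H.mem_mid.1 hg
  have hec := S.H.eq_one_symm hce
  let P : (X →ₗ[F] X) → Prop := fun C =>
    ∃ u ∈ M, S.Rad c u ∧ ∀ x, ∃ a, u (S.t e x) = S.t e x + S.t g (C x) + S.t c a
  have hadd : ∀ C C', P C → P C' → P (C + C') := by
    rintro C C' ⟨u, hu, hur, huv⟩ ⟨u', hu', hur', huv'⟩
    refine ⟨u' * u, M.mul_mem hu' hu, ⟨fun x => by rw [LinearEquiv.mul_apply, hur.1, hur'.1], fun v hv => ?_⟩,
      fun x => ?_⟩
    · obtain ⟨a, ha⟩ := hur.2 v hv
      obtain ⟨a', ha'⟩ := hur'.2 v hv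
      refine ⟨a + a', ?_⟩
      rw [LinearEquiv.mul_apply, show u v = v + S.t c a by rw [← ha]; abel, map_add, hur'.1,
        show u' v = v + S.t c a' by rw [← ha']; abel, map_add]
      abel
    · obtain ⟨a, ha⟩ := huv x
      obtain ⟨a', ha'⟩ := huv' x
      obtain ⟨b, hb⟩ := hur'.2 (S.t g (C x)) (by rw [S.P_pure, hgc, zero_smul])
      refine ⟨a + a' + b, ?_⟩
      rw [LinearEquiv.mul_apply, ha, map_add, map_add, ha', hur'.1,
        show u' (S.t g (C x)) = S.t g (C x) + S.t c b by rw [← hb]; abel, LinearMap.add_apply]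
      simp only [map_add]
      abel
  have hscal : ∀ k : F, P (k • LinearMap.id) := fun k => by
    have hfc : S.H.B (k • g) c = 0 := by rw [S.H.smul_left, hgc, mul_zero]
    obtain ⟨m, hm⟩ := S.H.exists_trace (-S.H.B (k • g) (k • g)) (by rw [map_neg, S.H.conj])
    refine ⟨_, S.sg_mem hM hc hfc hm, S.sg_rad hc hfc hm, fun x => ⟨(m - S.H.B e (k • g)) • x, ?_⟩⟩
    rw [LinearMap.smul_apply, LinearMap.id_apply, map_smul (S.t g), ← LinearMap.smul_apply, ← map_smul, add_assoc,
      ← S.sg_te hc hfc hm hec]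
    abel
  let Y : Submodule F (X →ₗ[F] X) :=
    { carrier := {C | ∀ k : F, P (k • C)}
      zero_mem' := fun k => by
        have := hscal 0
        simpa using this
      add_mem' := fun {C C'} h h' k => by rw [smul_add]; exact hadd _ _ (h k) (h' k)
      smul_mem' := fun r C h k => by rw [smul_smul]; exact h _ }
  have h1Y : LinearMap.id ∈ Y := hscal
  let Z : Submodule F (X →ₗ[F] X) :=
    { carrier := {C | ∀ D ∈ Y, D ∘ₗ C ∈ Y}
      zero_mem' := fun D _ => by rw [LinearMap.comp_zero]; exact Y.zero_mem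
      add_mem' := fun {C C'} h h' D hD => by rw [LinearMap.comp_add]; exact Y.add_mem (h D hD) (h' D hD)
      smul_mem' := fun r C h D hD => by rw [LinearMap.comp_smul]; exact Y.smul_mem r (h D hD) }
  have hdyZ : ∀ u : X, S.K.B u u = 0 → S.K.dyad u u ∈ Z := fun u huu D hD => by
    obtain ⟨L, hL, hLc, hLe, hLf⟩ := S.exists_levi hM hc he hce hdy huu
    have hLi := hM.iso _ hL
    have hinv : ∀ x : X, (x - S.K.B x u • u) + S.K.B (x - S.K.B x u • u) u • u = x := fun x => by
      rw [S.K.sub_left, S.K.smul_left, huu, mul_zero, sub_zero, sub_add_cancel]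
    have hinv' : ∀ x : X, (x + S.K.B x u • u) - S.K.B (x + S.K.B x u • u) u • u = x := fun x => by
      rw [S.K.add_left, S.K.smul_left, huu, mul_zero, add_zero, add_sub_cancel_right]
    have hsc : ∀ x, L.symm (S.t c x) = -S.t c (x - S.K.B x u • u) := fun x => L.injective (by
      rw [L.apply_symm_apply, map_neg, hLc, hinv, neg_neg])
    have hse : ∀ x, L.symm (S.t e x) = -S.t e (x + S.K.B x u • u) := fun x => L.injective (by
      rw [L.apply_symm_apply, map_neg, hLe, hinv', neg_neg])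
    have hstep : ∀ C, P C → P (-(C + C ∘ₗ S.K.dyad u u)) := by
      rintro C ⟨p, hp, hpr, hpv⟩
      refine ⟨L * p * L⁻¹, M.mul_mem (M.mul_mem hL hp) (M.inv_mem hL), ⟨fun x => ?_, fun v hv => ?_⟩, fun x => ?_⟩
      · show L (p (L.symm (S.t c x))) = _
        rw [hsc, map_neg, hpr.1, map_neg, hLc, hinv, neg_neg]
      · have h0 : S.P c (L.symm v) = 0 := S.K.ext_left fun x => by
          rw [S.P_B, ← hLi, L.apply_symm_apply, hLc, S.Ω.neg_right, ← S.P_B, hv, S.K.zero_left, neg_zero,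
            S.K.zero_left]
        obtain ⟨a, ha⟩ := hpr.2 _ h0
        refine ⟨-(a + S.K.B a u • u), ?_⟩
        show L (p (L.symm v)) - v = _
        rw [show p (L.symm v) = L.symm v + S.t c a by rw [← ha]; abel, map_add, L.apply_symm_apply, hLc, map_neg]
        abel
      · obtain ⟨a, ha⟩ := hpv (x + S.K.B x u • u)
        refine ⟨a + S.K.B a u • u, ?_⟩
        show L (p (L.symm (S.t e x))) = _
        rw [hse, map_neg, ha, map_neg, map_add, map_add, hLe, hLc, hLf g _ hgc hge, hinv']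
        simp only [LinearMap.neg_apply, LinearMap.add_apply, LinearMap.comp_apply, Herm.dyad_apply, map_add, map_neg]
        abel
    intro k
    have h1 := hadd _ _ (hstep _ (hD (-k))) (hD (-k))
    convert h1 using 1
    rw [LinearMap.smul_comp]
    module
  have hYZ : Z ≤ Y := fun C hC => by simpa using hC _ h1Y
  obtain ⟨v, hv0, hvv⟩ := S.K.exists_isotropic (by omega)
  obtain ⟨e', he', hve'⟩ := S.K.exists_partner hv0 hvv
  have hev' := S.K.eq_one_symm hve'
  have hcomp : ∀ A ∈ Z, ∀ B ∈ Z, A ∘ₗ B ∈ Z := fun A hA B hB D hD => by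
    rw [← LinearMap.comp_assoc]; exact hB _ (hA D hD)
  have d11 := hdyZ v hvv
  have d22 := hdyZ e' he'
  have d12 : S.K.dyad v e' ∈ Z := by
    have := hcomp _ d11 _ d22
    rwa [Herm.dyad_comp, hev', one_smul] at this
  have d21 : S.K.dyad e' v ∈ Z := by
    have := hcomp _ d22 _ d11
    rwa [Herm.dyad_comp, hve', one_smul] at this
  have hC : C = S.K.B (C v) e' • S.K.dyad v e' + S.K.B (C v) v • S.K.dyad e' e' +
      S.K.B (C e') e' • S.K.dyad v v + S.K.B (C e') v • S.K.dyad e' v := LinearMap.ext fun x => by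
    conv_lhs => rw [S.K.decomp_two hX hvv he' hve' x, map_add, map_smul, map_smul,
      S.K.decomp_two hX hvv he' hve' (C v), S.K.decomp_two hX hvv he' hve' (C e')]
    simp only [LinearMap.add_apply, LinearMap.smul_apply, Herm.dyad_apply]
    module
  have hCY : C ∈ Y := hYZ (hC ▸ Z.add_mem (Z.add_mem (Z.add_mem (Z.smul_mem _ d12) (Z.smul_mem _ d22))
    (Z.smul_mem _ d11)) (Z.smul_mem _ d21))
  have := hCY 1
  rwa [one_smul] at this

/-- All skew maps at one singular vector. -/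
theorem rad_full_three (hM : S.Over M) (hW : finrank F W = 3) (hX : finrank F X = 2)
    (hex : ∃ r : F, σ r = r ∧ r ≠ 0 ∧ r ≠ 1) {c : W} (hc0 : c ≠ 0) (hc : S.H.B c c = 0)
    {A₀ : X →ₗ[F] X} (hA₀ : S.up c hc A₀ ∈ M) (hns : ∀ k : F, A₀ ≠ k • LinearMap.id) :
    ∀ A, S.K.Skew A → S.up c hc A ∈ M := by
  obtain ⟨e, hee, hce⟩ := S.H.exists_partner hc0 hc
  have hdy := S.dyads_mem hM hX hex hc0 hc hee hce hA₀ hns
  obtain ⟨g, hg, N, hN, hN0⟩ := S.H.exists_aniso_mid (by omega) hc hee hce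
  obtain ⟨hgc, hge⟩ := S.H.mem_mid.1 hg
  have hNσ : σ N = N := hN ▸ S.H.self_real g
  obtain ⟨τ, hτ⟩ := S.H.exists_trace 1 (map_one σ)
  intro A hA
  obtain ⟨u, hu, hur, huv⟩ := S.cross_all hM hc hee hce hg hX hdy ((τ / N) • A)
  obtain ⟨u', hu', hur', huv'⟩ := S.cross_all hM hc hee hce hg hX hdy LinearMap.id
  obtain ⟨K, hK, hK'⟩ := S.rad_comm hM hc hce hu hu' hur hur'
  suffices A = K by rw [this]; exact hK
  refine LinearMap.ext fun z => S.K.ext_left fun y => ?_
  obtain ⟨a, ha⟩ := huv z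
  obtain ⟨b, hb⟩ := huv y
  obtain ⟨a', ha'⟩ := huv' z
  obtain ⟨b', hb'⟩ := huv' y
  rw [hK', ha, hb, ha', hb']
  simp only [add_assoc, add_sub_cancel_left, S.Ω.add_left, S.Ω.add_right, S.ω_pure, hN, hgc, S.H.eq_zero_symm hgc,
    hc, zero_mul, add_zero, LinearMap.smul_apply, LinearMap.id_apply, S.K.smul_left, S.K.smul_right, map_div₀, hNσ]
  field_simp
  linear_combination -(S.K.B (A z) y) * hτ + σ τ * hA z y

/-- All transvections. -/
theorem tv_mem_three (hM : S.Over M) (hW : finrank F W = 3) (hX : finrank F X = 2)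
    (hex : ∃ r : F, σ r = r ∧ r ≠ 0 ∧ r ≠ 1) (hns : ¬ S.Small M)
    (v : V) (hv : S.Ω.B v v = 0) (l : F) (hl : σ l = -l) : S.Ω.tv l v hv ∈ M := by
  rw [Small] at hns
  push Not at hns
  obtain ⟨c₀, hc₀0, hc₀, A₀, hA₀, hA₀ns⟩ := hns
  have hall : ∀ c, c ≠ 0 → S.H.B c c = 0 → ∀ (hc : S.H.B c c = 0) A, S.K.Skew A → S.up c hc A ∈ M := by
    refine S.H.iso_induct hc₀0 hc₀ (p := fun c => ∀ (hc : S.H.B c c = 0) A, S.K.Skew A → S.up c hc A ∈ M)
      (fun hc A hA => S.rad_full_three hM hW hX hex hc₀0 hc₀ hA₀ hA₀ns A hA) (fun k c hk hc0 hcc hp => ?_)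
      (fun m u hu c hm hc0 hcc hp => ?_)
    · intro hc A hA
      have h1 := hp hcc ((k * σ k) • A) (fun x y => by
        simp only [LinearMap.smul_apply, S.K.smul_left, S.K.smul_right, map_mul, S.K.inv]
        linear_combination (k * σ k) * hA x y)
      convert h1 using 1
      refine LinearEquiv.ext fun p => ?_
      simp only [S.up_apply, S.P_smul, map_smul, LinearMap.smul_apply, smul_smul, mul_comm k]
    · intro hc A hA
      exact S.up_transport hM (S.H.tv_unipotent m hu) (S.H.tv_iso hm hu) hcc (hp hcc A hA)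
  -- transvections at the vectors of singular factor spaces
  have hroot0 : ∀ c, c ≠ 0 → ∀ hc : S.H.B c c = 0, ∀ y m (hcy : S.Ω.B (S.t c y) (S.t c y) = 0), σ m = -m →
      S.Ω.tv m (S.t c y) hcy ∈ M := by
    intro c hc0 hc y m hcy hm
    have h1 := hall c hc0 hc hc (m • S.K.dyad y y) (fun p q => by
      simp only [LinearMap.smul_apply, Herm.dyad_apply, S.K.smul_left, S.K.smul_right, hm, S.K.conj]
      ring)
    convert h1 using 1
    refine LinearEquiv.ext fun p => ?_
    rw [Herm.tv_apply, S.up_apply, LinearMap.smul_apply, Herm.dyad_apply, map_smul, map_smul, S.P_B]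
  by_cases hv0 : v = 0
  · convert M.one_mem using 1
    refine LinearEquiv.ext fun p => ?_
    rw [Herm.tv_apply, hv0]
    simp
  obtain ⟨c, hc0, hc, hy0⟩ : ∃ c, c ≠ 0 ∧ S.H.B c c = 0 ∧ S.P c v ≠ 0 := by
    by_contra hcon
    push Not at hcon
    let D : Submodule F W :=
      { carrier := {u | S.P u v = 0}
        zero_mem' := by
          show S.P 0 v = 0
          rw [← zero_smul F (0 : W), S.P_smul, map_zero, zero_smul]
        add_mem' := fun {u u'} h1 h2 => by
          show S.P (u + u') v = 0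
          rw [S.P_add, show S.P u v = 0 from h1, show S.P u' v = 0 from h2, add_zero]
        smul_mem' := fun r u h1 => by
          show S.P (r • u) v = 0
          rw [S.P_smul, show S.P u v = 0 from h1, smul_zero] }
    obtain ⟨e, hee, hce⟩ := S.H.exists_partner hc₀0 hc₀
    have htop := S.H.le_of_nonorth (U := ⊤) (D := D) Submodule.mem_top Submodule.mem_top hc₀ hee hce
      (fun u _ huu hu0 => hcon u (fun h => hu0 (by rw [h, S.H.zero_left])) huu)
    refine hv0 (S.eq_of_P fun u => ?_)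
    rw [map_zero]
    exact htop (Submodule.mem_top (x := u))
  set y := S.P c v with hy
  obtain ⟨e, hee, hce⟩ := S.H.exists_partner hc0 hc
  have hec := S.H.eq_one_symm hce
  -- clearing the middle
  let D : AddSubmonoid V :=
    { carrier := {m | S.P c m = 0 ∧ ∀ p, S.P c p = y → ∃ h ∈ M, ∃ a, h p = p + m + S.t c a}
      zero_mem' := ⟨map_zero _, fun p _ => ⟨1, M.one_mem, 0, by simp⟩⟩
      add_mem' := fun {m m'} hm hm' => ⟨by rw [map_add, hm.1, hm'.1, add_zero], fun p hp => by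
        obtain ⟨h, hh, a, hha⟩ := hm.2 p hp
        obtain ⟨h', hh', a', hha'⟩ := hm'.2 (h p)
          (by rw [hha, map_add, map_add, hp, hm.1, S.P_pure, hc, zero_smul, add_zero, add_zero])
        exact ⟨h' * h, M.mul_mem hh' hh, a + a', by rw [LinearEquiv.mul_apply, hha', hha, map_add]; abel⟩⟩ }
  obtain ⟨g, hg, N, hN, hN0⟩ := S.H.exists_aniso_mid (by omega) hc hee hce
  have hall' : ∀ u : X, S.K.B u u = 0 → ∀ s : F, σ s = -s → S.up c hc (s • S.K.dyad u u) ∈ M := fun u _ s hs =>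
    hall c hc0 hc hc _ (S.K.skew_dyad hs u)
  let G : Submodule F W :=
    { carrier := {g | ∀ C : X →ₗ[F] X, S.t g (C y) ∈ D}
      zero_mem' := fun C => by simp
      add_mem' := fun {g g'} h1 h2 C => by
        rw [map_add, LinearMap.add_apply]; exact D.add_mem (h1 C) (h2 C)
      smul_mem' := fun r g h1 C => by
        rw [map_smul, LinearMap.smul_apply, ← map_smul, ← LinearMap.smul_apply]; exact h1 _ }
  have hgG : g ∈ G := fun C => by
    refine ⟨by rw [S.P_pure, (S.H.mem_mid.1 hg).1, zero_smul], fun p hp => ?_⟩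
    obtain ⟨u, hu, hur, huv⟩ := S.cross_all hM hc hee hce hg hX hall' C
    obtain ⟨a', ha'⟩ := hur.2 (p - S.t e y) (by rw [map_sub, hp, S.P_pure, hec, one_smul, sub_self])
    obtain ⟨a'', ha''⟩ := huv y
    refine ⟨u, hu, a' + a'', ?_⟩
    rw [map_sub, sub_eq_iff_eq_add] at ha'
    conv_lhs => rw [show p = S.t e y + (p - S.t e y) by abel, map_add, ha'', map_sub, ha']
    rw [map_add]; abel
  have hG : S.H.mid c e ≤ G := fun z hz => by
    rw [S.H.eq_smul_of_mid hW hc hee hce hg hN hN0 hz]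
    exact G.smul_mem _ hgG
  set m₀ := v - S.t e y - S.t c (S.P e v) with hm₀
  have hm₀c : S.P c m₀ = 0 := by
    rw [hm₀, map_sub, map_sub, S.P_pure, S.P_pure, hec, hc, one_smul, zero_smul, sub_zero, ← hy, sub_self]
  have hm₀e : S.P e m₀ = 0 := by
    rw [hm₀, map_sub, map_sub, S.P_pure, S.P_pure, hee, hce, one_smul, zero_smul, sub_zero, sub_self]
  have hm₀D : -m₀ ∈ D := by
    obtain ⟨b, d, hb, -⟩ := S.H.exists_dual_basis
    have hsum : ∀ k, ∑ i, S.H.B (b i) k • S.P (d i) m₀ = S.P k m₀ := fun k => by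
      have h := congrArg (S.P k) (S.decomp hb m₀)
      simpa only [map_sum, S.P_pure] using h
    have h2 : -m₀ = ∑ i, S.t (b i - S.H.B (b i) e • c - S.H.B (b i) c • e) (-S.P (d i) m₀) := by
      have e1 := congrArg (S.t c) ((hsum e).trans hm₀e)
      have e2 := congrArg (S.t e) ((hsum c).trans hm₀c)
      simp only [map_sum, map_smul, map_zero] at e1 e2
      simp only [map_sub, map_smul, LinearMap.sub_apply, LinearMap.smul_apply, map_neg, smul_neg,
        Finset.sum_sub_distrib, Finset.sum_neg_distrib, e1, e2, neg_zero, sub_zero, S.decomp hb]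
    rw [h2]
    refine D.sum_mem fun i _ => ?_
    obtain ⟨z, hz⟩ := S.K.exists_one hy0
    have := hG (show b i - S.H.B (b i) e • c - S.H.B (b i) c • e ∈ S.H.mid c e from S.H.mem_mid.2
      ⟨by simp only [S.H.sub_left, S.H.smul_left, hc, hec]; ring,
       by simp only [S.H.sub_left, S.H.smul_left, hee, hce]; ring⟩) (S.K.dyad (-S.P (d i) m₀) z)
    rwa [Herm.dyad_apply, hz, one_smul] at this
  obtain ⟨h, hh, a₁, hha⟩ := hm₀D.2 v rfl
  obtain ⟨x, hx⟩ : ∃ x, x = S.P e v + a₁ := ⟨_, rfl⟩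
  have hhv : h v = S.t e y + S.t c x := by rw [hha, hm₀, hx, map_add]; abel
  have hiso : σ (S.K.B y x) = -S.K.B y x := by
    have h1 : S.Ω.B (h v) (h v) = 0 := by rw [hM.iso _ hh, hv]
    rw [hhv, S.Ω.add_left, S.Ω.add_right, S.Ω.add_right, S.ω_pure, S.ω_pure, S.ω_pure, S.ω_pure, hee, hc, hec,
      hce] at h1
    rw [S.K.conj]
    linear_combination h1
  obtain ⟨y', hy'⟩ := S.K.exists_one hy0
  have hy'' := S.K.eq_one_symm hy'
  set κ := -S.K.B y x with hκ
  have hκσ : σ κ = -κ := by rw [hκ, map_neg, hiso]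
  set A : X →ₗ[F] X := -S.K.dyad x y' + S.K.dyad y' x + κ • S.K.dyad y' y' with hA
  have hAskew : S.K.Skew A := fun p q => by
    simp only [hA, LinearMap.add_apply, LinearMap.neg_apply, LinearMap.smul_apply, Herm.dyad_apply, S.K.add_left,
      S.K.add_right, S.K.neg_left, S.K.neg_right, S.K.smul_left, S.K.smul_right, hκσ, S.K.conj]
    ring
  have hAy : A y = -x := by
    simp only [hA, LinearMap.add_apply, LinearMap.neg_apply, LinearMap.smul_apply, Herm.dyad_apply, hy', one_smul]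
    rw [hκ]
    module
  set h' := S.up c hc A * h with hh'
  have hh'M : h' ∈ M := M.mul_mem (hall c hc0 hc hc A hAskew) hh
  have hh'v : h' v = S.t e y := by
    rw [hh', LinearEquiv.mul_apply, hhv, S.up_apply, map_add (S.P c), S.P_pure, S.P_pure, hec, hc, one_smul, zero_smul,
      add_zero, hAy, map_neg]
    abel
  have he0 : e ≠ 0 := fun h0 => by rw [h0, S.H.zero_right] at hce; exact zero_ne_one hce
  have hey : S.Ω.B (S.t e y) (S.t e y) = 0 := by rw [S.ω_pure, hee, zero_mul]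
  have h1 : S.Ω.tv l v hv = h'⁻¹ * S.Ω.tv l (S.t e y) hey * h' := by
    rw [mul_assoc, eq_inv_mul_iff_mul_eq]
    refine LinearEquiv.ext fun p => ?_
    show h' (S.Ω.tv l v hv p) = S.Ω.tv l (S.t e y) hey (h' p)
    rw [Herm.tv_apply, Herm.tv_apply, map_add, map_smul, map_smul, ← hh'v, hM.iso _ hh'M]
  rw [h1]
  exact M.mul_mem (M.mul_mem (M.inv_mem hh'M) (hroot0 e he0 hee y l hey hl)) hh'M

end Sys

end Cfsg.Agent.H58.TensorUnit3
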