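import Cfsg.Agent.H58.TensorUnit3.Pair

/-!
In characteristic two, in the absence of non-scalar radical elements, every element is decomposable.
-/

set_option autoImplicit false
set_option maxHeartbeats 1000000
set_option linter.style.haveILetI false
set_option linter.unusedSectionVars false

namespace Cfsg.Agent.H58.TensorUnit3

open Module

variable {F : Type*} [Field F] [Finite F] {σ : F ≃+* F} {V W X : Type*}
  [AddCommGroup V] [Module F V] [FiniteDimensional F V]
  [AddCommGroup W] [Module F W] [FiniteDimensional F W]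
  [AddCommGroup X] [Module F X] [FiniteDimensional F X]

/-- In a dihedral group generated by involutions: odd order conjugates them, even order gives a central element. -/
theorem dihedral {G : Type*} [Group G] [Finite G] {d z : G} (hd : d * d = 1) (hz : z * z = 1) :
    (∃ k : ℕ, z = (d * z) ^ k * d * ((d * z) ^ k)⁻¹) ∨
      ∃ k : ℕ, (d * z) ^ k ≠ 1 ∧ (d * z) ^ k * (d * z) ^ k = 1 ∧ Commute ((d * z) ^ k) d ∧
        Commute ((d * z) ^ k) z := by
  have hd' : d⁻¹ = d := inv_eq_of_mul_eq_one_right hd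
  have hz' : z⁻¹ = z := inv_eq_of_mul_eq_one_right hz
  have h1 : ∀ k : ℕ, d * (d * z) ^ k * d⁻¹ = ((d * z) ^ k)⁻¹ := fun k => by
    rw [← conj_pow, ← inv_pow]
    congr 1
    rw [mul_inv_rev, hd', hz', ← mul_assoc, hd, one_mul]
  have h2 : ∀ k : ℕ, z * (d * z) ^ k * z⁻¹ = ((d * z) ^ k)⁻¹ := fun k => by
    rw [← conj_pow, ← inv_pow]
    congr 1
    rw [mul_inv_rev, hd', hz', mul_assoc, mul_assoc, hz, mul_one]
  rcases Nat.even_or_odd (orderOf (d * z)) with ⟨k, hk⟩ | ⟨k, hk⟩
  · have hpos := orderOf_pos (d * z)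
    have hne : (d * z) ^ k ≠ 1 := pow_ne_one_of_lt_orderOf (by omega) (by omega)
    have hsq : (d * z) ^ k * (d * z) ^ k = 1 := by rw [← pow_add, ← hk, pow_orderOf_eq_one]
    have hinv : ((d * z) ^ k)⁻¹ = (d * z) ^ k := inv_eq_of_mul_eq_one_right hsq
    refine Or.inr ⟨k, hne, hsq, ?_, ?_⟩
    · have h := h1 k
      rw [hinv, mul_inv_eq_iff_eq_mul] at h
      exact h.symm
    · have h := h2 k
      rw [hinv, mul_inv_eq_iff_eq_mul] at h
      exact h.symm
  · refine Or.inl ⟨k, ?_⟩
    have h := h1 k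
    rw [mul_inv_eq_iff_eq_mul] at h
    have h3 : (d * z) ^ k * d * ((d * z) ^ k)⁻¹ = (d * z) ^ k * (d * z) ^ k * d := by
      have h4 : d * (d * z) ^ k = ((d * z) ^ k)⁻¹ * d := h
      calc (d * z) ^ k * d * ((d * z) ^ k)⁻¹
          = (d * z) ^ k * (d * (d * z) ^ k) * ((d * z) ^ k)⁻¹ * ((d * z) ^ k)⁻¹ := by group
        _ = d * ((d * z) ^ k)⁻¹ * ((d * z) ^ k)⁻¹ := by rw [h4]; group
        _ = (d * ((d * z) ^ k)⁻¹ * d⁻¹) * (d * ((d * z) ^ k)⁻¹ * d⁻¹) * d := by group
        _ = (d * (d * z) ^ k * d⁻¹)⁻¹ * (d * (d * z) ^ k * d⁻¹)⁻¹ * d := by group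
        _ = _ := by rw [h1, inv_inv]
    have h5 : (d * z) ^ k * (d * z) ^ k = (d * z)⁻¹ :=
      eq_inv_of_mul_eq_one_left (by rw [← pow_add, ← pow_succ, ← two_mul, ← hk, pow_orderOf_eq_one])
    rw [h3, h5, mul_inv_rev, hd', hz', mul_assoc, hd, mul_one]

theorem finrank_comap_le {U U' : Type*} [AddCommGroup U] [Module F U] [FiniteDimensional F U] [AddCommGroup U']
    [Module F U'] [FiniteDimensional F U'] (f : U →ₗ[F] U') (E : Submodule F U') :
    finrank F (E.comap f) + finrank F (LinearMap.range f) ≤ finrank F U + finrank F E := by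
  have h1 := LinearMap.finrank_range_add_finrank_ker (f.domRestrict (E.comap f))
  have h2 := LinearMap.finrank_range_add_finrank_ker f
  have h3 : finrank F (LinearMap.range (f.domRestrict (E.comap f))) ≤ finrank F E :=
    Submodule.finrank_mono (by rintro _ ⟨⟨u, hu⟩, rfl⟩; exact hu)
  have h4 : finrank F (LinearMap.ker (f.domRestrict (E.comap f))) ≤ finrank F (LinearMap.ker f) :=
    LinearMap.finrank_le_finrank_of_injective
      (f := LinearMap.codRestrict (LinearMap.ker f)
        ((E.comap f).subtype ∘ₗ (LinearMap.ker (f.domRestrict (E.comap f))).subtype) fun u => u.2)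
      fun u v h => by
        have h' := congrArg Subtype.val h
        exact Subtype.ext (Subtype.ext h')
  omega

namespace Sys

variable (S : Sys F σ V W X) {M : Subgroup (V ≃ₗ[F] V)}

theorem dec_two (htwo : (2 : F) = 0) (hM : S.Over M) (hS : S.Small M) (hS' : S.flip.Small M)
    (ha : 3 ≤ finrank F W) (hb : 2 ≤ finrank F X) (hba : finrank F X < finrank F W) (hex : ∃ r : F, σ r = r ∧ r ≠ 0 ∧ r ≠ 1) {g : V ≃ₗ[F] V}
    (hg : g ∈ M) : S.Dec g := by
  have hgi := hM.iso _ hg
  obtain ⟨c, hc0, hc⟩ := S.H.exists_isotropic (by omega)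
  obtain ⟨y, hy0, hy⟩ := S.K.exists_isotropic hb
  set L := S.lk g c y with hLdef
  set L' := S.lk' g c y with hL'def
  set T := S.lkT g c y with hTdef
  have hTx : ∀ x, T x = L (L' x) := fun x => rfl
  by_cases hTn : IsNilpotent T
  · exact S.dec_of_nilpotent hM hS hS' (by omega) hba hg hc0 hc hy0 hy hTn
  have hone : σ (1 : F) = -1 := by rw [map_one]; linear_combination htwo
  have h11 : ((1 : F) • LinearMap.id (R := F) (M := X)) + (1 : F) • LinearMap.id = 0 := by
    rw [← add_smul, show (1 : F) + 1 = 0 by linear_combination htwo, zero_smul]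
  have h11' : ((1 : F) • LinearMap.id (R := F) (M := W)) + (1 : F) • LinearMap.id = 0 := by
    rw [← add_smul, show (1 : F) + 1 = 0 by linear_combination htwo, zero_smul]
  set d := S.up c hc ((1 : F) • LinearMap.id) with hd
  set e₀ := S.flip.up y hy ((1 : F) • LinearMap.id) with he₀
  set z := g * e₀ * g⁻¹ with hz
  have hdM : d ∈ M := S.up_scalar_mem hM hc0 hc hone
  have he₀M : e₀ ∈ M := S.flip.up_scalar_mem (Over.flip S hM) hy0 hy hone
  have hzM : z ∈ M := M.mul_mem (M.mul_mem hg he₀M) (M.inv_mem hg)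
  have hd2 : d * d = 1 := by rw [hd, S.up_add, h11, S.up_zero]
  have hz2 : z * z = 1 := by
    rw [hz, show g * e₀ * g⁻¹ * (g * e₀ * g⁻¹) = g * (e₀ * e₀) * g⁻¹ by group, he₀, S.flip.up_add, h11',
      S.flip.up_zero, mul_one, mul_inv_cancel]
  have hdv : ∀ v, d v = v + S.t c (S.P c v) := fun v => by
    rw [hd, S.up_apply, LinearMap.smul_apply, LinearMap.id_apply, one_smul]
  have hzv : ∀ v, z v = v + g (S.t (S.flip.P y (g.symm v)) y) := fun v => by
    show g (S.flip.up y hy ((1 : F) • LinearMap.id) (g.symm v)) = _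
    rw [S.flip.up_apply, map_add, g.apply_symm_apply, LinearMap.smul_apply, LinearMap.id_apply, one_smul]
    rfl
  haveI : Finite V := Module.finite_of_finite F
  haveI : Finite (V ≃ₗ[F] V) := Finite.of_injective _ DFunLike.coe_injective
  obtain ⟨ey, -, hyey⟩ := S.K.exists_partner hy0 hy
  have hQ : ∀ w, S.flip.P y (S.t w ey) = w := fun w => by
    rw [← S.flip_t, S.flip.P_pure]
    show S.K.B ey y • w = w
    rw [S.K.eq_one_symm hyey, one_smul]
  rcases dihedral hd2 hz2 with ⟨k, hk⟩ | ⟨k, hne, hsq, hcd, hcz⟩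
  · -- the two involutions are not conjugate
    exfalso
    set h := (d * z) ^ k with hh
    let φ : W →ₗ[F] (LinearMap.range (S.t c)).map h.toLinearMap :=
      LinearMap.codRestrict _ (g.toLinearMap ∘ₗ S.t.flip y) fun w => by
        obtain ⟨v, hv⟩ : ∃ v, z v - v = g (S.t w y) := ⟨g (S.t w ey), by
          rw [hzv, add_sub_cancel_left, g.symm_apply_apply, hQ]⟩
        refine ⟨S.t c (S.P c (h.symm v)), LinearMap.mem_range_self _ _, ?_⟩
        show h (S.t c _) = g (S.t w y)
        rw [← hv, hk]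
        show h _ = h (d (h.symm v)) - v
        rw [hdv, map_add, h.apply_symm_apply, add_sub_cancel_left]
    have hφ : Function.Injective φ := (injective_iff_map_eq_zero φ).2 fun w hw =>
      S.t_inj_left hy0 (g.injective ((congrArg Subtype.val hw).trans (map_zero g).symm))
    have h1 := LinearMap.finrank_le_finrank_of_injective hφ
    have h2 := (Submodule.finrank_map_le h.toLinearMap (LinearMap.range (S.t c))).trans
      (LinearMap.finrank_range_le _)
    omega
  set j := (d * z) ^ k with hj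
  have hjM : j ∈ M := M.pow_mem (M.mul_mem hdM hzM) k
  have hj2 : ∀ v, j (j v) = v := LinearEquiv.congr_fun hsq
  obtain ⟨e, -, hce⟩ := S.H.exists_partner hc0 hc
  have hec := S.H.eq_one_symm hce
  let B : Module.End F X := S.P c ∘ₗ j.toLinearMap ∘ₗ S.t e
  have hjc : ∀ x, j (S.t c x) = S.t c (B x) := fun x => by
    have h1 := LinearEquiv.congr_fun hcd.eq (S.t e x)
    rw [LinearEquiv.mul_apply, LinearEquiv.mul_apply, hdv, hdv, S.P_pure, hec, one_smul, map_add] at h1
    exact add_left_cancel h1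
  have hPj : ∀ v, S.P c (j v) = B (S.P c v) := fun v => by
    have h1 := LinearEquiv.congr_fun hcd.eq v
    rw [LinearEquiv.mul_apply, LinearEquiv.mul_apply, hdv, hdv, map_add, hjc] at h1
    exact sub_eq_zero.1 (S.t_inj hc0 (by rw [map_sub, add_left_cancel h1, sub_self]))
  set j' := g⁻¹ * j * g with hj'
  have hj'M : j' ∈ M := M.mul_mem (M.mul_mem (M.inv_mem hg) hjM) hg
  have hce₀ : Commute j' e₀ := by
    have h1 := hcz.eq
    show g⁻¹ * j * g * e₀ = e₀ * (g⁻¹ * j * g)
    calc g⁻¹ * j * g * e₀ = g⁻¹ * (j * z) * g := by rw [hz]; group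
      _ = g⁻¹ * (z * j) * g := by rw [h1]
      _ = _ := by rw [hz]; group
  let A' : Module.End F W := S.flip.P y ∘ₗ j'.toLinearMap ∘ₗ S.t.flip ey
  have he₀v : ∀ v, e₀ v = v + S.t (S.flip.P y v) y := fun v => by
    rw [he₀, S.flip.up_apply, LinearMap.smul_apply, LinearMap.id_apply, one_smul]
    rfl
  have hj'y : ∀ w, j' (S.t w y) = S.t (A' w) y := fun w => by
    have h1 : j' (e₀ (S.t w ey)) = e₀ (j' (S.t w ey)) := LinearEquiv.congr_fun hce₀.eq _
    rw [he₀v, he₀v, hQ, map_add] at h1
    exact add_left_cancel h1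
  have hQj : ∀ v, S.flip.P y (j' v) = A' (S.flip.P y v) := fun v => by
    have h1 : j' (e₀ v) = e₀ (j' v) := LinearEquiv.congr_fun hce₀.eq _
    rw [he₀v, he₀v, map_add, hj'y] at h1
    exact sub_eq_zero.1 (S.t_inj_left hy0 (by rw [map_sub, LinearMap.sub_apply, add_left_cancel h1, sub_self]))
  have hjg : ∀ v, j (g v) = g (j' v) := fun v => (g.apply_symm_apply _).symm
  have hLA : ∀ w, L (A' w) = B (L w) := fun w => by
    show S.P c (g (S.t (A' w) y)) = B (S.P c (g (S.t w y)))
    rw [← hPj, hjg, hj'y]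
  have hLB : ∀ x, A' (L' x) = L' (B x) := fun x => by
    show A' (S.flip.P y (g.symm (S.t c x))) = S.flip.P y (g.symm (S.t c (B x)))
    rw [← hQj, ← hjc]
    congr 1
    show g.symm (j (g (g.symm _))) = _
    rw [g.apply_symm_apply]
  have hBB : ∀ x, B (B x) = x := fun x => by
    have h1 := hj2 (S.t c x)
    rw [hjc, hjc] at h1
    exact sub_eq_zero.1 (S.t_inj hc0 (by rw [map_sub, h1, sub_self]))
  have hj'2 : ∀ v, j' (j' v) = v := fun v => by
    show g.symm (j (g (g.symm (j (g v))))) = v
    rw [g.apply_symm_apply, hj2, g.symm_apply_apply]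
  have hAA : ∀ w, A' (A' w) = w := fun w => by
    have h1 := hj'2 (S.t w y)
    rw [hj'y, hj'y] at h1
    exact sub_eq_zero.1 (S.t_inj_left hy0 (by rw [map_sub, LinearMap.sub_apply, h1, sub_self]))
  -- the image of `j - 1`
  have himg : ∀ (m : ℕ) v, ∃ a₀ b₀, ((d * z) ^ m) v - v = S.t c a₀ + g (S.t b₀ y) := by
    intro m
    induction m with
    | zero => exact fun v => ⟨0, 0, by simp⟩
    | succ m ih =>
      intro v
      obtain ⟨a₀, b₀, hab⟩ := ih (d (z v))
      refine ⟨a₀ + S.P c (z v), b₀ + S.flip.P y (g.symm v), ?_⟩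
      rw [pow_succ, LinearEquiv.mul_apply, LinearEquiv.mul_apply,
        show ((d * z) ^ m) (d (z v)) = d (z v) + (S.t c a₀ + g (S.t b₀ y)) by rw [← hab]; abel, hdv, map_add,
        map_add, LinearMap.add_apply, map_add]
      conv_lhs => arg 1; arg 1; arg 1; rw [hzv]
      abel
  set N : Module.End F X := B - 1 with hN
  set R := LinearMap.range (T ^ finrank F X) with hR
  set r := finrank F R with hr
  set E := R.map N with hE
  have hTB : ∀ x, T (B x) = B (T x) := fun x => by rw [hTx, hTx, ← hLB, hLA]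
  have hTN : Commute T N := (show Commute T B from LinearMap.ext hTB).sub_right (Commute.one_right T)
  have hstab : LinearMap.ker (T ^ (finrank F X + 1)) = LinearMap.ker (T ^ finrank F X) :=
    Module.End.ker_pow_eq_ker_pow_finrank_of_le (Nat.le_succ _)
  have hTR : ∀ x ∈ R, T x = 0 → x = 0 := by
    rintro _ ⟨v, rfl⟩ hv
    have h1 : v ∈ LinearMap.ker (T ^ (finrank F X + 1)) := by
      rw [LinearMap.mem_ker, pow_succ', Module.End.mul_apply, hv]
    rwa [hstab] at h1
  have hTmem : ∀ x ∈ R, T x ∈ R := by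
    rintro _ ⟨v, rfl⟩
    exact ⟨T v, by rw [← Module.End.mul_apply, ← Module.End.mul_apply, ← pow_succ, ← pow_succ']⟩
  have hrange : finrank F (LinearMap.range (T ^ (finrank F X + 1))) = r := by
    have h1 := LinearMap.finrank_range_add_finrank_ker (T ^ (finrank F X + 1))
    have h2 := LinearMap.finrank_range_add_finrank_ker (T ^ finrank F X)
    rw [hstab] at h1
    rw [hr, hR]
    omega
  have hNN : ∀ x, N (N x) = 0 := fun x => by
    simp only [hN, LinearMap.sub_apply, Module.End.one_apply, map_sub, hBB]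
    linear_combination (norm := module) htwo • (x - B x)
  have hNR : ∀ x ∈ R, N x ∈ R := by
    rintro _ ⟨v, rfl⟩
    exact ⟨N v, by rw [← Module.End.mul_apply, (hTN.pow_left _).eq, Module.End.mul_apply]⟩
  have hE2 : 2 * finrank F E ≤ r := by
    have h1 := LinearMap.finrank_range_add_finrank_ker (N.domRestrict R)
    rw [LinearMap.range_domRestrict, ← hE, ← hr] at h1
    have h2 : finrank F E ≤ finrank F (LinearMap.ker (N.domRestrict R)) := by
      refine LinearMap.finrank_le_finrank_of_injective (f := LinearMap.codRestrict (LinearMap.ker (N.domRestrict R))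
        (LinearMap.codRestrict R E.subtype ?_) ?_) ?_
      · rintro ⟨_, x, hx, rfl⟩; exact hNR x hx
      · rintro ⟨_, x, hx, rfl⟩; exact hNN x
      · exact fun u v h => Subtype.ext (congrArg (fun w => ((w : R) : X)) (congrArg Subtype.val h))
    omega
  have hEmem : ∀ u, (T ^ finrank F X) (N u) ∈ E := fun u =>
    ⟨(T ^ finrank F X) u, LinearMap.mem_range_self _ _, by
      rw [← Module.End.mul_apply, ← Module.End.mul_apply, (hTN.pow_left _).eq]⟩
  set Da := E.comap (T ^ (finrank F X + 1)) with hDa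
  set Db := E.comap ((T ^ finrank F X) ∘ₗ L) with hDb
  have hDa' : finrank F Da + r ≤ finrank F X + finrank F E := hrange ▸ finrank_comap_le _ _
  have hDb' : finrank F Db + r ≤ finrank F W + finrank F E := by
    refine le_trans (Nat.add_le_add_left ?_ _) (finrank_comap_le ((T ^ finrank F X) ∘ₗ L) E)
    rw [← hrange]
    refine Submodule.finrank_mono ?_
    rintro _ ⟨v, rfl⟩
    exact ⟨L' v, by rw [LinearMap.comp_apply, ← hTx, ← Module.End.mul_apply, ← pow_succ]⟩
  have himg' : ∀ v, ∃ a₀ b₀, j v - v = S.t c a₀ + g (S.t b₀ y) ∧ a₀ ∈ Da ∧ b₀ ∈ Db ∧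
      L b₀ = N (S.P c v) ∧ L' a₀ = A' (S.flip.P y (g.symm v)) - S.flip.P y (g.symm v) := by
    intro v
    obtain ⟨a₀, b₀, hab⟩ := himg k v
    have h1 : L b₀ = N (S.P c v) := by
      have h := congrArg (S.P c) hab
      rw [map_sub, hPj, map_add, S.P_pure, hc, zero_smul, zero_add] at h
      exact h.symm
    have h2 : L' a₀ = A' (S.flip.P y (g.symm v)) - S.flip.P y (g.symm v) := by
      have h := congrArg (fun u => S.flip.P y (g.symm u)) hab
      simp only [map_sub, map_add, g.symm_apply_apply] at h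
      rw [show g.symm (j v) = j' (g.symm v) by
        show _ = g.symm (j (g (g.symm v)))
        rw [g.apply_symm_apply], hQj, show S.flip.P y (S.t b₀ y) = (0 : W) by
        rw [← S.flip_t, S.flip.P_pure]
        show S.K.B y y • b₀ = 0
        rw [hy, zero_smul], add_zero] at h
      exact h.symm
    refine ⟨a₀, b₀, hab, ?_, ?_, h1, h2⟩
    · show (T ^ (finrank F X + 1)) a₀ ∈ E
      rw [pow_succ, Module.End.mul_apply, hTx, h2, map_sub, hLA]
      exact hEmem _
    · show (T ^ finrank F X) (L b₀) ∈ E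
      rw [h1]
      exact hEmem _
  obtain ⟨A, hAc, hA⟩ := S.dec_normal (S.dec_of_commute hM hS hjM hc0 hc one_ne_zero hcd) hc0 hjc
  obtain ⟨B', hB'y, hB'⟩ := S.flip.dec_normal
    (S.flip.dec_of_commute (Over.flip S hM) hS' hj'M hy0 hy one_ne_zero hce₀) hy0 (a := A') hj'y
  have hB'' : ∀ w x, j' (S.t w x) = S.t (A' w) (B' x) := fun w x => hB' x w
  -- two eigenvalue conditions give the claim
  have hrpos : 0 < r := by
    by_contra h0
    have h1 : R = ⊥ := Submodule.finrank_eq_zero.1 (show finrank F R = 0 by omega)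
    exact hTn ⟨finrank F X, LinearMap.range_eq_bot.1 h1⟩
  have htheta : ∀ (x₁ : X) (θ : F), x₁ ∈ R → x₁ ≠ 0 → T x₁ = θ • x₁ →
      (∀ x ∈ R, T (T x - θ • x) = θ • (T x - θ • x)) → S.Dec g := by
    intro x₁ θ hx₁ hx₁0 hTθ hsq2
    have hθ0 : θ ≠ 0 := fun h => hx₁0 (hTR _ hx₁ (by rw [hTθ, h, zero_smul]))
    have hθ : σ θ = θ := by
      obtain ⟨v, hv⟩ := S.K.exists_one hx₁0
      have hpow : ∀ m, S.K.B x₁ ((T ^ m) v) = θ ^ m := fun m => by
        induction m with
        | zero => simpa using hv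
        | succ m ih =>
          rw [pow_succ', Module.End.mul_apply, ← S.lkT_self hgi, ← hTdef, hTθ, S.K.smul_left, ih, pow_succ']
      have hTp : ∀ m, T ((T ^ m) v) = (T ^ (m + 1)) v := fun m => by rw [pow_succ', Module.End.mul_apply]
      set x := (T ^ finrank F X) v with hx
      have h1 := congrArg (S.K.B x₁) (hsq2 x (LinearMap.mem_range_self _ _))
      rw [map_sub, map_smul, S.K.sub_right, S.K.smul_right, S.K.smul_right, S.K.sub_right, S.K.smul_right, hx,
        hTp, hTp, hpow, hpow, hpow] at h1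
      have h2 : θ ^ finrank F X * ((θ - σ θ) * (θ - σ θ)) = 0 := by
        rw [pow_succ, pow_succ] at h1
        linear_combination h1
      rcases mul_eq_zero.1 h2 with h3 | h3
      · exact absurd h3 (pow_ne_zero _ hθ0)
      · exact (sub_eq_zero.1 (mul_self_eq_zero.1 h3)).symm
    refine S.dec_of_theta hM hS hS' ha hba hex hg hc0 hc hy0 hy hθ0 hθ ⟨finrank F X + 2, ?_⟩
    have h0 : (T - θ • 1) * (T - θ • 1) * T ^ finrank F X = 0 := LinearMap.ext fun v => by
      have h := hsq2 _ (LinearMap.mem_range_self (T ^ finrank F X) v)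
      simp only [Module.End.mul_apply, LinearMap.sub_apply, LinearMap.smul_apply, Module.End.one_apply,
        LinearMap.zero_apply]
      rw [h, sub_self]
    have hc' : Commute T (T - θ • 1) := (Commute.refl T).sub_right ((Commute.one_right T).smul_right θ)
    rw [← hTdef, hc'.mul_pow, (hc'.pow_pow _ _).eq, pow_add (T - θ • 1), pow_two (T - θ • 1),
      pow_add T, mul_assoc, ← mul_assoc ((T - θ • 1) * (T - θ • 1)), h0, zero_mul, mul_zero]
  have hr1 : r = 1 → S.Dec g := by
    intro h1
    obtain ⟨x₁, hx₁, hx₁0⟩ := Submodule.exists_mem_ne_zero_of_ne_bot (p := R)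
      fun h => by rw [hr, h, finrank_bot] at hrpos; omega
    have hspan : ∀ x ∈ R, ∃ p : F, x = p • x₁ := fun x hx => by
      have h2 : Submodule.span F {x₁} = R := Submodule.eq_of_le_of_finrank_le
        ((Submodule.span_singleton_le_iff_mem _ _).2 hx₁) (by rw [finrank_span_singleton hx₁0]; omega)
      rw [← h2, Submodule.mem_span_singleton] at hx
      obtain ⟨p, hp⟩ := hx
      exact ⟨p, hp.symm⟩
    obtain ⟨θ, hθ⟩ := hspan _ (hTmem _ hx₁)
    refine htheta x₁ θ hx₁ hx₁0 hθ fun x hx => ?_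
    obtain ⟨p, rfl⟩ := hspan x hx
    rw [show T (p • x₁) = θ • p • x₁ by rw [map_smul, hθ, smul_comm], sub_self, map_zero, smul_zero]
  by_cases hNB : ∃ x, ∀ p : F, B x ≠ p • x
  · -- the action on `c ⊗ X` is not scalar
    obtain ⟨x, hx⟩ := hNB
    obtain ⟨y₀, hy₀x, hy₀B⟩ := S.K.exists_perp_one hx
    let π₀ : W →ₗ[F] W := LinearMap.id - (S.H.lin e).smulRight c
    let Θ : V →ₗ[F] W := π₀ ∘ₗ S.flip.P y₀
    have hπc : π₀ c = 0 := by
      show c - S.H.B c e • c = 0
      rw [hce, one_smul, sub_self]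
    have hPt : ∀ w x, S.flip.P y₀ (S.t w x) = S.K.B x y₀ • w := fun w x => S.flip.P_pure y₀ x w
    have h1 : LinearMap.range (π₀ ∘ₗ A) ≤ Db.map (Θ ∘ₗ g.toLinearMap ∘ₗ S.t.flip y) := by
      rintro _ ⟨w, rfl⟩
      obtain ⟨a₀, b₀, hab, -, hb₀, -, -⟩ := himg' (S.t w x)
      refine ⟨b₀, hb₀, ?_⟩
      have h2 := congrArg Θ hab
      rw [hA, map_add] at h2
      simp only [Θ, LinearMap.comp_apply, map_sub, hPt, hy₀x, hy₀B, one_smul, zero_smul, map_smul, hπc, smul_zero,
        zero_add, sub_zero, map_zero] at h2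
      exact h2.symm
    have h2 := (Submodule.finrank_mono h1).trans (Submodule.finrank_map_le _ _)
    have hAinj : Function.Injective A := (S.dec_injective hA).1
    have h3 := LinearMap.finrank_range_add_finrank_ker (π₀ ∘ₗ A)
    have h4 : finrank F (LinearMap.ker (π₀ ∘ₗ A)) ≤ 1 := by
      refine (Submodule.finrank_mono (show _ ≤ Submodule.span F {c} from fun w hw => ?_)).trans
        (finrank_span_le_card ({c} : Set W) |>.trans (by simp))
      have h5 : A w - S.H.B (A w) e • c = 0 := hw
      refine Submodule.mem_span_singleton.2 ⟨S.H.B (A w) e, hAinj ?_⟩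
      rw [map_smul, hAc]
      exact (sub_eq_zero.1 h5).symm
    have hle : r ≤ finrank F E + 1 := by omega
    rcases (show r = 1 ∨ (r = 2 ∧ finrank F E = 1) by omega) with h | ⟨h, hEone⟩
    · exact hr1 h
    obtain ⟨x₁, hx₁E, hx₁0⟩ := Submodule.exists_mem_ne_zero_of_ne_bot (p := E)
      fun h => by rw [h, finrank_bot] at hEone; omega
    obtain ⟨x', hx'R, hx'⟩ := id hx₁E
    have hx₁R : x₁ ∈ R := hx' ▸ hNR _ hx'R
    have hEspan : ∀ u ∈ E, ∃ p : F, u = p • x₁ := fun u hu => by
      have h5 : Submodule.span F {x₁} = E := Submodule.eq_of_le_of_finrank_le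
        ((Submodule.span_singleton_le_iff_mem _ _).2 hx₁E) (by rw [finrank_span_singleton hx₁0]; omega)
      rw [← h5, Submodule.mem_span_singleton] at hu
      obtain ⟨p, hp⟩ := hu
      exact ⟨p, hp.symm⟩
    obtain ⟨θ, hθ⟩ := hEspan (T x₁) ⟨T x', hTmem _ hx'R, by
      rw [← hx', ← Module.End.mul_apply, ← hTN.eq, Module.End.mul_apply]⟩
    have hli : LinearIndependent F ![x₁, x'] := (LinearIndependent.pair_iff' hx₁0).2 fun p hp => hx₁0 (by
      rw [← hx', ← hp, map_smul, ← hx', hNN, smul_zero])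
    have hspan : Submodule.span F (Set.range ![x₁, x']) = R := by
      refine Submodule.eq_of_le_of_finrank_le (Submodule.span_le.2 ?_) ?_
      · rintro _ ⟨i, rfl⟩
        fin_cases i
        exacts [hx₁R, hx'R]
      · rw [finrank_span_eq_card hli, Fintype.card_fin]; omega
    have hRspan : ∀ u ∈ R, ∃ p q : F, u = p • x₁ + q • x' := fun u hu => by
      rw [← hspan, Submodule.mem_span_range_iff_exists_fun] at hu
      obtain ⟨p, hp⟩ := hu
      exact ⟨p 0, p 1, by rw [← hp, Fin.sum_univ_two]; rfl⟩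
    obtain ⟨p, q, hpq⟩ := hRspan _ (hTmem _ hx'R)
    have hq : q = θ := by
      have h6 := congrArg N hpq
      rw [← Module.End.mul_apply, ← hTN.eq, Module.End.mul_apply, map_add, map_smul, map_smul, hx', hθ,
        show N x₁ = 0 by rw [← hx', hNN], smul_zero, zero_add] at h6
      exact (smul_left_injective F hx₁0 h6).symm
    refine htheta x₁ θ hx₁R hx₁0 hθ fun u hu => ?_
    obtain ⟨p', q', rfl⟩ := hRspan u hu
    simp only [map_add, map_sub, map_smul, hθ, hpq, hq]
    module
  · push Not at hNB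
    obtain ⟨β, hβ⟩ := S.K.scalar_of_eigen hNB
    have hBid : ∀ x, B x = x := fun x => by
      have hBx : ∀ x, B x = β • x := fun x => by rw [hβ]; rfl
      obtain ⟨x0, hx0⟩ := S.X0
      have h1 := hBB x0
      rw [hBx x0, map_smul, hBx, smul_smul, ← sub_eq_zero, ← one_smul F x0, smul_smul, ← sub_smul, smul_eq_zero,
        mul_one] at h1
      have h2 : β = 1 := sub_eq_zero.1 (mul_self_eq_zero.1 (show (β - 1) * (β - 1) = 0 by
        linear_combination h1.resolve_right hx0 - (β - 1) * htwo))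
      rw [hBx, h2, one_smul]
    have hN0 : ∀ x, N x = 0 := fun x => by
      rw [hN, LinearMap.sub_apply, Module.End.one_apply, hBid, sub_self]
    have hE0 : finrank F E = 0 := by
      rw [Submodule.finrank_eq_zero, eq_bot_iff]
      rintro _ ⟨u, -, rfl⟩
      rw [hN0]; exact Submodule.zero_mem _
    by_cases hNA : ∃ w, ∀ p : F, A' w ≠ p • w
    · obtain ⟨w, hw⟩ := hNA
      obtain ⟨u₀, hu₀w, hu₀A⟩ := S.H.exists_perp_one hw
      let π₀ : X →ₗ[F] X := LinearMap.id - (S.K.lin ey).smulRight y
      let Θ : V →ₗ[F] X := π₀ ∘ₗ S.P u₀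
      have hπy : π₀ y = 0 := by
        show y - S.K.B y ey • y = 0
        rw [hyey, one_smul, sub_self]
      have h1 : LinearMap.range (π₀ ∘ₗ B') ≤ Da.map (Θ ∘ₗ g.symm.toLinearMap ∘ₗ S.t c) := by
        rintro _ ⟨x, rfl⟩
        obtain ⟨a₀, b₀, hab, ha₀, -, -, -⟩ := himg' (g (S.t w x))
        refine ⟨a₀, ha₀, ?_⟩
        have h2 := congrArg (fun v => Θ (g.symm v)) hab
        rw [hjg, hB''] at h2
        simp only [Θ, LinearMap.comp_apply, map_sub, map_add, g.symm_apply_apply, S.P_pure, hu₀w, hu₀A, one_smul,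
          zero_smul, map_smul, hπy, smul_zero, add_zero, sub_zero, map_zero] at h2
        exact h2.symm
      have h2 := (Submodule.finrank_mono h1).trans (Submodule.finrank_map_le _ _)
      have hBinj : Function.Injective B' := (S.dec_injective hB'').2
      have h3 := LinearMap.finrank_range_add_finrank_ker (π₀ ∘ₗ B')
      have h4 : finrank F (LinearMap.ker (π₀ ∘ₗ B')) ≤ 1 := by
        refine (Submodule.finrank_mono (show _ ≤ Submodule.span F {y} from fun x hx => ?_)).trans
          (finrank_span_le_card ({y} : Set X) |>.trans (by simp))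
        have h5 : B' x - S.K.B (B' x) ey • y = 0 := hx
        refine Submodule.mem_span_singleton.2 ⟨S.K.B (B' x) ey, hBinj ?_⟩
        rw [map_smul, hB'y]
        exact (sub_eq_zero.1 h5).symm
      exact hr1 (by omega)
    · push Not at hNA
      obtain ⟨α, hα⟩ := S.H.scalar_of_eigen hNA
      have hA'id : ∀ w, A' w = w := fun w => by
        have hAx : ∀ w, A' w = α • w := fun w => by rw [hα]; rfl
        obtain ⟨w0, hw0⟩ := S.W0
        have h1 := hAA w0
        rw [hAx w0, map_smul, hAx, smul_smul, ← sub_eq_zero, ← one_smul F w0, smul_smul, ← sub_smul, smul_eq_zero,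
          mul_one] at h1
        have h2 : α = 1 := sub_eq_zero.1 (mul_self_eq_zero.1 (show (α - 1) * (α - 1) = 0 by
          linear_combination h1.resolve_right hw0 - (α - 1) * htwo))
        rw [hAx, h2, one_smul]
      obtain ⟨x, hx⟩ : ∃ x, B' x ≠ x := by
        by_contra hcon
        push Not at hcon
        refine hne (LinearEquiv.ext fun v => ?_)
        have h1 : j' = 1 := S.ext_equiv fun w x => by rw [hB'', hA'id, hcon]; rfl
        show j v = v
        rw [← g.apply_symm_apply v, hjg, h1]; rfl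
      set x₀ := B' x - x with hx₀
      have hx₀0 : x₀ ≠ 0 := sub_ne_zero.2 hx
      have hmem : ∀ w, ∃ a₀ b₀, S.t w x₀ = g.symm (S.t c a₀) + S.t b₀ y ∧ L b₀ = 0 := by
        intro w
        obtain ⟨a₀, b₀, hab, -, -, hb, -⟩ := himg' (g (S.t w x))
        refine ⟨a₀, b₀, ?_, by rw [hb, hN0]⟩
        have h2 := congrArg g.symm hab
        rw [hjg, hB'', hA'id, map_sub, map_add, g.symm_apply_apply, g.symm_apply_apply, g.symm_apply_apply,
          ← map_sub] at h2
        exact h2
      by_cases hxy : ∃ p : F, x₀ = p • y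
      · obtain ⟨p, hp⟩ := hxy
        have hp0 : p ≠ 0 := fun h => hx₀0 (by rw [hp, h, zero_smul])
        exfalso
        refine hTn ⟨1, LinearMap.ext fun u => ?_⟩
        obtain ⟨a₀, b₀, hab, hb⟩ := hmem (L' u)
        have h2 := congrArg (fun v => S.P c (g v)) hab
        rw [hp, map_smul] at h2
        simp only [map_add, map_smul, g.apply_symm_apply, S.P_pure, hc, zero_smul, zero_add] at h2
        have h3 : p • T u = L b₀ := h2
        rw [hb] at h3
        rw [pow_one]
        exact (smul_eq_zero.1 h3).resolve_left hp0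
      · exfalso
        push Not at hxy
        have hli : LinearIndependent F ![y, x₀] :=
          (LinearIndependent.pair_iff' hy0).2 fun p hp => hxy p hp.symm
        set D : Submodule F V := LinearMap.range (g.symm.toLinearMap ∘ₗ S.t c) ⊔ LinearMap.range (S.t.flip y)
        have h1 := S.flip.finrank_indep hli ⊤ (D := D) fun i w _ => by
          fin_cases i
          · exact Submodule.mem_sup_right ⟨w, rfl⟩
          · obtain ⟨a₀, b₀, hab, -⟩ := hmem w
            show S.t w x₀ ∈ D
            rw [hab]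
            exact D.add_mem (Submodule.mem_sup_left ⟨a₀, rfl⟩) (Submodule.mem_sup_right ⟨b₀, rfl⟩)
        have h2 : finrank F D ≤ finrank F X + finrank F W :=
          (Submodule.finrank_add_le_finrank_add_finrank _ _).trans
            (Nat.add_le_add (LinearMap.finrank_range_le _) (LinearMap.finrank_range_le _))
        rw [Fintype.card_fin, finrank_top] at h1
        omega

end Sys

end Cfsg.Agent.H58.TensorUnit3
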