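import Cfsg.Agent.H58.TensorUnit3.Line

/-!
Pairs of singular factor spaces: an element is decomposable when its linking map is nilpotent, or is annihilated
by a power of `T (T - θ)` with `θ` fixed by the field automorphism.
-/

set_option autoImplicit false
set_option maxHeartbeats 1000000
set_option linter.style.haveILetI false
set_option linter.unusedSectionVars false

namespace Cfsg.Agent.H58.TensorUnit3

open Module

variable {F : Type*} [Field F] [Finite F] {σ : F ≃+* F} {V W X : Type*}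
  [AddCommGroup V] [Module F V] [FiniteDimensional F V]
  [AddCommGroup W] [Module F W] [FiniteDimensional F W]
  [AddCommGroup X] [Module F X] [FiniteDimensional F X]

namespace Herm

variable (h : Herm F σ X)

theorem exists_perp_one {x u : X} (hu : ∀ k : F, u ≠ k • x) : ∃ y, h.B x y = 0 ∧ h.B u y = 1 := by
  obtain ⟨φ, hφu, hφ⟩ := Submodule.exists_dual_map_eq_bot_of_notMem (p := Submodule.span F {x}) (x := u)
    (fun hm => by obtain ⟨k, hk⟩ := Submodule.mem_span_singleton.1 hm; exact hu k hk.symm) inferInstance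
  refine ⟨h.rep ((φ u)⁻¹ • φ), ?_, ?_⟩
  · rw [h.B_rep, LinearMap.smul_apply]
    have : φ x ∈ (Submodule.span F {x}).map φ := Submodule.mem_map_of_mem (Submodule.mem_span_singleton_self x)
    rw [hφ, Submodule.mem_bot] at this
    rw [this, smul_zero]
  · rw [h.B_rep, LinearMap.smul_apply, smul_eq_mul, inv_mul_cancel₀ hφu]

include h in
/-- A map all of whose vectors are eigenvectors is scalar. -/
theorem scalar_of_eigen {A : X →ₗ[F] X} (hA : ∀ x, ∃ k : F, A x = k • x) : ∃ k : F, A = k • LinearMap.id := by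
  rcases subsingleton_or_nontrivial X with hX | hX
  · exact ⟨0, LinearMap.ext fun x => Subsingleton.elim _ _⟩
  obtain ⟨x, hx⟩ := exists_ne (0 : X)
  obtain ⟨k, hk⟩ := hA x
  refine ⟨k, LinearMap.ext fun y => ?_⟩
  rw [LinearMap.smul_apply, LinearMap.id_apply]
  obtain ⟨l, hl⟩ := hA y
  by_cases hy : ∃ r : F, y = r • x
  · obtain ⟨r, rfl⟩ := hy
    rw [map_smul, hk, smul_comm]
  obtain ⟨m, hm⟩ := hA (x + y)
  push Not at hy
  obtain ⟨u, hu1, hu2⟩ := h.exists_perp_one hy
  have h1 := congrArg (fun v => h.B v u) hm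
  rw [map_add, hk, hl] at h1
  simp only [h.add_left, h.smul_left, hu1, hu2, mul_zero, zero_add, mul_one] at h1
  rw [map_add, hk, hl, ← h1, smul_add, add_left_inj, ← sub_eq_zero, ← sub_smul, smul_eq_zero, sub_eq_zero] at hm
  rw [hl, ← hm.resolve_right hx]

theorem mem_span_of_perp {f e v : X} (hef : h.B e f = 1) (hv : ∀ u, h.B u f = 0 → h.B v u = 0) :
    v = h.B v e • f := h.ext_left fun u => by
  have h1 := hv (u - h.B u f • e) (by rw [h.sub_left, h.smul_left, hef, mul_one, sub_self])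
  rw [h.sub_right, h.smul_right, h.conj, sub_eq_zero] at h1
  rw [h.smul_left, h1, mul_comm]

end Herm

namespace Sys

variable (S : Sys F σ V W X) {M : Subgroup (V ≃ₗ[F] V)}

/-- A decomposable map with given action on one factor space. -/
theorem dec_normal {g : V ≃ₗ[F] V} (hg : S.Dec g) {c : W} (hc : c ≠ 0) {a : X →ₗ[F] X}
    (hgc : ∀ x, g (S.t c x) = S.t c (a x)) :
    ∃ A : W →ₗ[F] W, A c = c ∧ ∀ w x, g (S.t w x) = S.t (A w) (a x) := by
  obtain ⟨A, B, hAB⟩ := hg
  obtain ⟨e, he⟩ := S.H.exists_one hc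
  set κ := S.H.B (A c) e with hκ
  have ha : ∀ x, a x = κ • B x := fun x => by
    have h1 := congrArg (S.P e) ((hgc x).symm.trans (hAB c x))
    rwa [S.P_pure, S.P_pure, he, one_smul] at h1
  obtain ⟨x0, hx0⟩ := S.X0
  have hax : a x0 ≠ 0 := fun h0 => hx0 (S.t_inj hc (g.injective (by rw [hgc, h0, map_zero, map_zero])))
  have hκ0 : κ ≠ 0 := fun h0 => hax (by rw [ha, h0, zero_smul])
  have hA : ∀ w x, g (S.t w x) = S.t ((κ⁻¹ • A) w) (a x) := fun w x => by
    rw [hAB, ha, map_smul, LinearMap.smul_apply, map_smul, LinearMap.smul_apply, smul_smul, mul_inv_cancel₀ hκ0,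
      one_smul]
  refine ⟨κ⁻¹ • A, ?_, hA⟩
  have h1 : S.t ((κ⁻¹ • A) c - c) (a x0) = 0 := by
    rw [map_sub, LinearMap.sub_apply, ← hA, hgc, sub_self]
  exact sub_eq_zero.1 (S.t_inj_left hax h1)

/-- If a conjugate of a scalar element at `c` is decomposable then so is the conjugating element. -/
theorem dec_of_conj (hM : S.Over M) (hS : S.Small M) (hba : finrank F X < finrank F W) {g : V ≃ₗ[F] V}
    (hg : g ∈ M) {c : W} (hc0 : c ≠ 0) (hc : S.H.B c c = 0) {δ : F} (hδ : δ ≠ 0)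
    (hd : S.Dec (g * S.up c hc (δ • LinearMap.id) * g⁻¹)) : S.Dec g := by
  obtain ⟨A, B, hAB⟩ := hd
  set z := g * S.up c hc (δ • LinearMap.id) * g⁻¹ with hz
  have hzv : ∀ v, z v - v = g (S.t c (δ • S.P c (g.symm v))) := fun v => by
    show g (S.up c hc (δ • LinearMap.id) (g.symm v)) - v = _
    rw [S.up_apply, map_add, g.apply_symm_apply, add_sub_cancel_left]
    rfl
  set D : Submodule F V := (LinearMap.range (S.t c)).map g.toLinearMap with hD
  have hDfin : finrank F D ≤ finrank F X :=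
    (Submodule.finrank_map_le _ _).trans (LinearMap.finrank_range_le _)
  have hmem : ∀ v, z v - v ∈ D := fun v => by
    rw [hzv]; exact Submodule.mem_map_of_mem (LinearMap.mem_range_self _ _)
  obtain ⟨ν, hν⟩ : ∃ ν : F, B = ν • LinearMap.id := by
    refine S.K.scalar_of_eigen fun x => ?_
    by_contra hx
    push Not at hx
    obtain ⟨y, hy1, hy2⟩ := S.K.exists_perp_one hx
    let φ : W →ₗ[F] D := LinearMap.codRestrict D (((z : V →ₗ[F] V) - 1) ∘ₗ S.t.flip x) fun w => hmem (S.t w x)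
    have hφ : Function.Injective φ := (injective_iff_map_eq_zero φ).2 fun w hw => by
      have h1 : z (S.t w x) - S.t w x = 0 := congrArg Subtype.val hw
      rw [hAB] at h1
      have h2 := congrArg (S.flip.P y) h1
      rw [map_sub, ← S.flip_t, ← S.flip_t, S.flip.P_pure, S.flip.P_pure, map_zero] at h2
      change S.K.B (B x) y • A w - S.K.B x y • w = 0 at h2
      rw [hy1, hy2, one_smul, zero_smul, sub_zero] at h2
      exact (S.dec_injective hAB).1 (h2.trans (map_zero A).symm)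
    have := LinearMap.finrank_le_finrank_of_injective hφ
    omega
  set N := ν • A - LinearMap.id with hN
  have hzN : ∀ w x, z (S.t w x) - S.t w x = S.t (N w) x := fun w x => by
    rw [hAB, hν, hN]; simp
  obtain ⟨f, hf0, hf⟩ : ∃ f : W, f ≠ 0 ∧ ∀ w, ∃ k : F, N w = k • f := by
    by_cases hN0 : ∀ w, N w = 0
    · exact ⟨c, hc0, fun w => ⟨0, by rw [hN0, zero_smul]⟩⟩
    push Not at hN0
    obtain ⟨w0, hw0⟩ := hN0
    refine ⟨N w0, hw0, fun w => ?_⟩
    by_contra hw
    push Not at hw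
    have hli : LinearIndependent F ![N w0, N w] :=
      (LinearIndependent.pair_iff' hw0).2 fun k hk => hw k hk.symm
    have h1 := S.finrank_indep hli ⊤ (D := D) fun i x _ => by
      fin_cases i
      · simpa [hzN] using hmem (S.t w0 x)
      · simpa [hzN] using hmem (S.t w x)
    rw [Fintype.card_fin, finrank_top] at h1
    obtain ⟨x0, hx0⟩ := S.X0
    have : 0 < finrank F X := finrank_pos_iff_exists_ne_zero.2 ⟨x0, hx0⟩
    omega
  have hrange : ∀ v, z v - v ∈ LinearMap.range (S.t f) := fun v => by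
    have h1 : (LinearMap.range (S.t f)).comap ((z : V →ₗ[F] V) - 1) = ⊤ := S.span _ fun w x => by
      obtain ⟨k, hk⟩ := hf w
      refine Submodule.mem_comap.2 ⟨k • x, ?_⟩
      show _ = z (S.t w x) - S.t w x
      rw [hzN, hk, map_smul, map_smul, LinearMap.smul_apply]
    exact (h1 ▸ Submodule.mem_top : v ∈ (LinearMap.range (S.t f)).comap ((z : V →ₗ[F] V) - 1))
  refine S.line hM hS hg hc0 hc hf0 fun x => ?_
  obtain ⟨v, hv⟩ := S.P_surj hc0 (δ⁻¹ • x)
  obtain ⟨x', hx'⟩ := hrange (g v)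
  rw [hzv, g.symm_apply_apply, hv, smul_smul, mul_inv_cancel₀ hδ, one_smul] at hx'
  exact ⟨x', hx'.symm⟩

/-- If a conjugate of a scalar element at the larger factor is decomposable then so is the conjugating element. -/
theorem dec_of_conj_flip (hM : S.Over M) (hS : S.Small M) (hS' : S.flip.Small M) (ha : 2 ≤ finrank F W)
    (hba : finrank F X < finrank F W) {g : V ≃ₗ[F] V} (hg : g ∈ M) {y : X} (hy0 : y ≠ 0) (hy : S.K.B y y = 0)
    {δ : F} (hδ : δ ≠ 0) (hδσ : σ δ = -δ)
    (hd : S.Dec (g * S.flip.up y hy (δ • LinearMap.id) * g⁻¹)) : S.Dec g := by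
  obtain ⟨p, hp⟩ := CharP.exists F
  haveI := hp
  haveI hpp : Fact p.Prime := ⟨(CharP.char_is_prime_or_zero F p).resolve_right (CharP.char_ne_zero_of_finite F p)⟩
  haveI : ExpChar F p := ExpChar.prime hpp.out
  set e₀ := S.flip.up y hy (δ • LinearMap.id) with he₀
  set z := g * e₀ * g⁻¹ with hz
  have hzM : z ∈ M :=
    M.mul_mem (M.mul_mem hg (S.flip.up_scalar_mem (Over.flip S hM) hy0 hy hδσ)) (M.inv_mem hg)
  have hzi := hM.iso _ hzM
  have hpow : z ^ p = 1 := by
    rw [hz, conj_pow]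
    suffices e₀ ^ p = 1 by rw [this, mul_one, mul_inv_cancel]
    have h1 : ∀ n : ℕ, e₀ ^ n = S.flip.up y hy ((n : F) • δ • LinearMap.id) := fun n => by
      induction n with
      | zero => rw [pow_zero, Nat.cast_zero, zero_smul, S.flip.up_zero]
      | succ n ih => rw [pow_succ, ih, he₀, S.flip.up_add, Nat.cast_succ, add_smul, one_smul]
    rw [h1, CharP.cast_eq_zero, zero_smul, S.flip.up_zero]
  obtain ⟨A, B, hAB⟩ := hd
  have hpowAB : ∀ (n : ℕ) w x, (z ^ n) (S.t w x) = S.t ((A ^ n) w) ((B ^ n) x) := fun n => by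
    induction n with
    | zero => exact fun w x => rfl
    | succ n ih =>
      intro w x
      rw [pow_succ', LinearEquiv.mul_apply, ih, pow_succ', pow_succ', Module.End.mul_apply, Module.End.mul_apply,
        ← hAB]
  obtain ⟨x0, hx0⟩ := S.X0
  obtain ⟨y0, hy0'⟩ := S.K.exists_one hx0
  obtain ⟨α, hα⟩ : ∃ α : F, ∀ w, α • (A ^ p) w = w := ⟨S.K.B ((B ^ p) x0) y0, fun w => by
    have h1 := congrArg (S.flip.P y0) (hpowAB p w x0)
    rw [hpow, ← S.flip_t, ← S.flip_t] at h1
    change S.flip.P y0 (S.flip.t x0 w) = _ at h1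
    rw [S.flip.P_pure, S.flip.P_pure] at h1
    change S.K.B x0 y0 • w = S.K.B ((B ^ p) x0) y0 • _ at h1
    rw [hy0', one_smul] at h1
    exact h1.symm⟩
  obtain ⟨w0, hw0⟩ := S.W0
  have hα0 : α ≠ 0 := fun h0 => hw0 (by rw [← hα w0, h0, zero_smul])
  obtain ⟨r, hr⟩ : ∃ r : F, r ^ p = α := by
    obtain ⟨r, hr⟩ := (Finite.injective_iff_surjective.1 (frobenius_inj F p)) α
    exact ⟨r, hr⟩
  have hr0 : r ≠ 0 := fun h0 => hα0 (by rw [← hr, h0, zero_pow hpp.out.ne_zero])
  set A₁ : Module.End F W := r • A with hA₁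
  set B₁ : Module.End F X := r⁻¹ • B with hB₁
  have hAB₁ : ∀ w x, z (S.t w x) = S.t (A₁ w) (B₁ x) := fun w x => by
    rw [hA₁, hB₁, hAB, LinearMap.smul_apply, LinearMap.smul_apply]
    simp [smul_smul, hr0]
  have hA₁p : A₁ ^ p = 1 := LinearMap.ext fun w => by
    rw [hA₁, smul_pow, LinearMap.smul_apply, hr, hα]; rfl
  obtain ⟨ν, hν0, hH, -⟩ := S.dec_similitude hzi hAB₁
  have hiter : ∀ (n : ℕ) w u, S.H.B ((A₁ ^ n) w) ((A₁ ^ n) u) * ν ^ n = S.H.B w u := fun n => by
    induction n with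
    | zero => exact fun w u => by simp
    | succ n ih =>
      intro w u
      rw [pow_succ', Module.End.mul_apply, Module.End.mul_apply, pow_succ', ← mul_assoc, hH, ih]
  have hν : ν = 1 := by
    obtain ⟨u0, hu0⟩ := S.H.exists_one hw0
    have h1 := hiter p w0 u0
    rw [hA₁p, Module.End.one_apply, Module.End.one_apply, hu0, one_mul] at h1
    exact frobenius_inj F p (by simpa [frobenius_def] using h1)
  have hiso : ∀ w u, S.H.B (A₁ w) (A₁ u) = S.H.B w u := fun w u => by
    have := hH w u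
    rwa [hν, mul_one] at this
  obtain ⟨f, hf0, hff, hAf⟩ : ∃ f, f ≠ 0 ∧ S.H.B f f = 0 ∧ A₁ f = f := by
    set N : Module.End F W := A₁ - 1 with hN
    have hNp : N ^ p = 0 := by
      haveI : Nontrivial W := ⟨⟨w0, 0, hw0⟩⟩
      haveI : CharP (Module.End F W) p :=
        charP_of_injective_algebraMap (algebraMap F (Module.End F W)).injective p
      rw [hN, sub_pow_char_of_commute p (Commute.one_right A₁), one_pow, hA₁p, sub_self]
    by_cases hN0 : N = 0
    · obtain ⟨f, hf0, hff⟩ := S.H.exists_isotropic ha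
      exact ⟨f, hf0, hff, sub_eq_zero.1 (LinearMap.congr_fun hN0 f)⟩
    classical
    have hex : ∃ k, N ^ k = 0 := ⟨p, hNp⟩
    obtain ⟨k, hk⟩ : ∃ k, Nat.find hex = k + 2 := by
      refine ⟨Nat.find hex - 2, ?_⟩
      have h1 := Nat.find_spec hex
      rcases h2 : Nat.find hex with - | - | n
      · rw [h2, pow_zero] at h1
        exact absurd (LinearMap.congr_fun h1 w0) hw0
      · rw [h2, pow_one] at h1
        exact absurd h1 hN0
      · omega
    have h1 := Nat.find_spec hex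
    rw [hk] at h1
    obtain ⟨u, hu⟩ : ∃ u, (N ^ (k + 1)) u ≠ 0 := by
      by_contra hc
      push Not at hc
      exact Nat.find_min hex (m := k + 1) (by omega) (LinearMap.ext hc)
    set f := (N ^ (k + 1)) u with hf
    have hNf : N f = 0 := by
      rw [hf, ← Module.End.mul_apply, ← pow_succ', h1]; rfl
    have hAf : A₁ f = f := sub_eq_zero.1 hNf
    refine ⟨f, hu, ?_, hAf⟩
    obtain ⟨u', hu'⟩ : ∃ u', f = N u' := ⟨(N ^ k) u, by rw [hf, pow_succ', Module.End.mul_apply]⟩
    calc S.H.B f f = S.H.B (N u') f := congrArg (fun v => S.H.B v f) hu'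
      _ = S.H.B (A₁ u') (A₁ f) - S.H.B u' f := by rw [hAf, hN, LinearMap.sub_apply, S.H.sub_left]; rfl
      _ = 0 := by rw [hiso, sub_self]
  have hPz : ∀ v, S.P f (z v) = B₁ (S.P f v) :=
    LinearMap.congr_fun (S.ext_pure (f := S.P f ∘ₗ z.toLinearMap) (g := B₁ ∘ₗ S.P f) fun w x => by
      show S.P f (z (S.t w x)) = B₁ (S.P f (S.t w x))
      rw [hAB₁, S.P_pure, S.P_pure, map_smul]
      conv_lhs => rw [← hAf, hiso])
  set d := S.up f hff (δ • LinearMap.id) with hd'
  have hcomm : Commute d z := LinearEquiv.ext fun v => by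
    simp only [LinearEquiv.mul_apply, hd', S.up_apply, map_add, hAB₁, hAf, hPz, LinearMap.smul_apply,
      LinearMap.id_apply, map_smul]
  have hh : g⁻¹ * d * (g⁻¹)⁻¹ ∈ M :=
    M.mul_mem (M.mul_mem (M.inv_mem hg) (S.up_scalar_mem hM hf0 hff hδσ)) (M.inv_mem (M.inv_mem hg))
  have hcomm' : Commute (g⁻¹ * d * (g⁻¹)⁻¹) e₀ := by
    have h1 := hcomm.eq
    rw [hz] at h1
    show g⁻¹ * d * (g⁻¹)⁻¹ * e₀ = e₀ * (g⁻¹ * d * (g⁻¹)⁻¹)
    calc g⁻¹ * d * (g⁻¹)⁻¹ * e₀ = g⁻¹ * (d * (g * e₀ * g⁻¹)) * g := by group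
      _ = g⁻¹ * (g * e₀ * g⁻¹ * d) * g := by rw [h1]
      _ = _ := by group
  have h2 : S.Dec (g⁻¹ * d * (g⁻¹)⁻¹) :=
    S.dec_flip.1 (S.flip.dec_of_commute (Over.flip S hM) hS' hh hy0 hy hδ hcomm')
  have h3 := Dec.inv S (S.dec_of_conj hM hS hba (M.inv_mem hg) hf0 hff hδ h2)
  rwa [inv_inv] at h3

/-- A skew linking map of square zero vanishes and the element is decomposable. -/
theorem zero_of_sq (hM : S.Over M) (hS : S.Small M) (hba : finrank F X < finrank F W) {g : V ≃ₗ[F] V}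
    (hg : g ∈ M) {c : W} (hc0 : c ≠ 0) (hc : S.H.B c c = 0) {L : Module.End F X}
    (hL : ∀ x, S.P c (g (S.t c x)) = L x) (hskew : S.K.Skew L) (hsq : L * L = 0) : S.Dec g ∧ L = 0 := by
  have hgi := hM.iso _ hg
  have hLL : ∀ x, L (L x) = 0 := LinearMap.congr_fun hsq
  have hinv : ∀ x, S.P c (g.symm (S.t c x)) = -L x := fun x => S.K.ext_left fun y => by
    rw [S.P_B, ← hgi, g.apply_symm_apply, ← S.B_P, hL, S.K.neg_left]
    linear_combination hskew x y
  obtain ⟨δ, hδ0, hδ⟩ := S.H.exists_skew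
  set d := S.up c hc (δ • LinearMap.id) with hd
  set g1 := g * d * g⁻¹ with hg1
  have hdM : d ∈ M := S.up_scalar_mem hM hc0 hc hδ
  have hg1M : g1 ∈ M := M.mul_mem (M.mul_mem hg hdM) (M.inv_mem hg)
  have hdv : ∀ v, d v = v + δ • S.t c (S.P c v) := fun v => by
    rw [hd, S.up_apply, LinearMap.smul_apply, LinearMap.id_apply, map_smul]
  have hg1v : ∀ v, g1 v = v + δ • g (S.t c (S.P c (g.symm v))) := fun v => by
    show g (d (g.symm v)) = _
    rw [hdv, map_add, map_smul, g.apply_symm_apply]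
  set C : V →ₗ[F] V := (δ * δ) • (S.t c ∘ₗ L ∘ₗ S.P c ∘ₗ g.symm.toLinearMap +
    g.toLinearMap ∘ₗ S.t c ∘ₗ L ∘ₗ S.P c) with hC
  have hCv : ∀ v, C v = (δ * δ) • (S.t c (L (S.P c (g.symm v))) + g (S.t c (L (S.P c v)))) := fun v => rfl
  have h1 : ∀ v, d (g1 v) = g1 (d v) + C v := fun v => by
    rw [hdv, hg1v, hg1v, hdv, hCv]
    simp only [map_add, map_smul, hL, hinv, map_neg, smul_neg]
    module
  have h2 : ∀ v, C (g1 (d v)) = C v := fun v => by
    have e1 : g.symm (g1 (d v)) = d (g.symm (d v)) := g.symm_apply_apply _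
    rw [hCv, hCv, e1, hg1v, hdv, hdv]
    simp [map_add, map_smul, hL, hinv, hLL, S.P_pure, hc]
  set j := d * g1 * (g1 * d)⁻¹ with hj
  have hjM : j ∈ M := M.mul_mem (M.mul_mem hdM hg1M) (M.inv_mem (M.mul_mem hg1M hdM))
  have hjv : ∀ v, j v = v + C v := fun v => by
    show d (g1 ((g1 * d).symm v)) = _
    have h3 : g1 (d ((g1 * d).symm v)) = v := (g1 * d).apply_symm_apply v
    rw [h1, h3, ← h2 ((g1 * d).symm v), h3]
  have hjc : ∀ x, j (S.t c x) = S.t c (LinearMap.id (R := F) x) := fun x => by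
    rw [hjv, hCv, hinv, S.P_pure, hc]
    simp [hLL]
  have hjDec : S.Dec j := S.line hM hS hjM hc0 hc hc0 fun x => ⟨_, hjc x⟩
  obtain ⟨A, -, hA⟩ := S.dec_normal hjDec hc0 hjc
  set N := A - LinearMap.id with hN
  have hCN : ∀ w x, C (S.t w x) = S.t (N w) x := fun w x => by
    have h3 := hjv (S.t w x)
    rw [hA] at h3
    rw [hN, LinearMap.sub_apply, LinearMap.id_apply, map_sub, LinearMap.sub_apply, ← LinearMap.id_apply (R := F) x,
      h3, LinearMap.id_apply]
    abel
  set r := LinearMap.range L with hr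
  have hr2 : 2 * finrank F r ≤ finrank F X := by
    have h3 := LinearMap.finrank_range_add_finrank_ker L
    have h4 : r ≤ LinearMap.ker L := by
      rintro _ ⟨x, rfl⟩; exact hLL x
    have h5 := Submodule.finrank_mono h4
    rw [← hr] at h3
    omega
  set D : Submodule F V := r.map (S.t c) ⊔ r.map (g.toLinearMap ∘ₗ S.t c) with hD
  have hDfin : finrank F D ≤ 2 * finrank F r := by
    refine (Submodule.finrank_add_le_finrank_add_finrank _ _).trans ?_
    have h3 := Submodule.finrank_map_le (S.t c) r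
    have h4 := Submodule.finrank_map_le (g.toLinearMap ∘ₗ S.t c) r
    omega
  have hCD : ∀ v, C v ∈ D := fun v => by
    rw [hCv]
    exact D.smul_mem _ (D.add_mem (Submodule.mem_sup_left (Submodule.mem_map_of_mem (LinearMap.mem_range_self _ _)))
      (Submodule.mem_sup_right ⟨_, LinearMap.mem_range_self _ _, rfl⟩))
  have hbpos : 0 < finrank F X := by
    obtain ⟨x0, hx0⟩ := S.X0
    exact finrank_pos_iff_exists_ne_zero.2 ⟨x0, hx0⟩
  have hN0 : ∀ w, N w = 0 := by
    intro w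
    by_contra hw
    set f₀ := N w with hf₀
    have hmem : ∀ x, S.t f₀ x ∈ D := fun x => hCN w x ▸ hCD _
    by_cases hfc : ∃ k : F, f₀ = k • c
    · obtain ⟨k, hk⟩ := hfc
      have hk0 : k ≠ 0 := fun h0 => hw (by rw [hk, h0, zero_smul])
      have hL0 : ∀ x, L x = 0 := fun x => by
        obtain ⟨_, ⟨r1, hr1, rfl⟩, _, ⟨r2, -, rfl⟩, hsum⟩ := Submodule.mem_sup.1 (hmem (k⁻¹ • x))
        rw [hk, map_smul, map_smul, LinearMap.smul_apply, smul_smul, inv_mul_cancel₀ hk0, one_smul] at hsum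
        have h3 := congrArg (fun v => S.P c (g.symm v)) hsum
        obtain ⟨x1, rfl⟩ := hr1
        simpa [hinv, S.P_pure, hc, hLL] using h3.symm
      exact hw ((S.t_inj_left (x := (S.X0).choose) (S.X0).choose_spec) (by
        rw [hf₀, ← hCN, hCv]; simp [hL0]))
    · push Not at hfc
      obtain ⟨u, hu1, hu2⟩ := S.H.exists_perp_one hfc
      let φ : X × r →ₗ[F] D := LinearMap.codRestrict D (LinearMap.coprod (S.t f₀) (S.t c ∘ₗ r.subtype)) fun p => by
        rw [LinearMap.coprod_apply]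
        exact D.add_mem (hmem _) (Submodule.mem_sup_left (Submodule.mem_map_of_mem p.2.2))
      have hφ : Function.Injective φ := (injective_iff_map_eq_zero φ).2 fun p hp => by
        have h3 : S.t f₀ p.1 + S.t c (p.2 : X) = 0 := congrArg Subtype.val hp
        have h4 := congrArg (S.P u) h3
        rw [map_add, S.P_pure, S.P_pure, hu1, hu2, one_smul, zero_smul, add_zero, map_zero] at h4
        rw [h4, map_zero, zero_add] at h3
        exact Prod.ext h4 (Subtype.ext (S.t_inj hc0 h3))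
      have h3 := LinearMap.finrank_le_finrank_of_injective hφ
      rw [Module.finrank_prod] at h3
      omega
  have hcomm : Commute g1 d := LinearEquiv.ext fun v => by
    have hC0 : C = 0 := S.ext_pure fun w x => by rw [hCN, hN0]; simp
    show g1 (d v) = d (g1 v)
    rw [h1, hC0, LinearMap.zero_apply, add_zero]
  have hdec : S.Dec g := S.dec_of_conj hM hS hba hg hc0 hc hδ0 (S.dec_of_commute hM hS hg1M hc0 hc hδ0 hcomm)
  refine ⟨hdec, LinearMap.ext fun x => ?_⟩
  obtain ⟨A', B', hAB⟩ := hdec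
  have hLB : ∀ x, L x = S.H.B (A' c) c • B' x := fun x => by rw [← hL, hAB, S.P_pure]
  obtain ⟨x0, hx0⟩ := S.X0
  have h3 := hLL x0
  rw [hLB, hLB, map_smul, smul_eq_zero, smul_eq_zero] at h3
  have hk : S.H.B (A' c) c = 0 := by
    rcases h3 with h3 | h3 | h3
    · exact h3
    · exact h3
    · have hB := (S.dec_injective hAB).2
      exact absurd (hB (hB (show B' (B' x0) = B' (B' 0) by rw [h3, map_zero, map_zero]))) hx0
  rw [hLB, hk, zero_smul, LinearMap.zero_apply]

/-- A nilpotent skew linking map vanishes and the element is decomposable. -/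
theorem zero_of_nilpotent (hM : S.Over M) (hS : S.Small M) (hba : finrank F X < finrank F W) {c : W}
    (hc0 : c ≠ 0) (hc : S.H.B c c = 0) (n : ℕ) :
    ∀ {g : V ≃ₗ[F] V}, g ∈ M → ∀ {L : Module.End F X}, (∀ x, S.P c (g (S.t c x)) = L x) → S.K.Skew L →
      L ^ 2 ^ n = 0 → S.Dec g ∧ L = 0 := by
  induction n with
  | zero =>
    intro g hg L hL hskew hp
    rw [pow_zero, pow_one] at hp
    exact S.zero_of_sq hM hS hba hg hc0 hc hL hskew (by rw [hp, zero_mul])
  | succ n ih =>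
    intro g hg L hL hskew hp
    have hgi := hM.iso _ hg
    have hinv : ∀ x, S.P c (g.symm (S.t c x)) = -L x := fun x => S.K.ext_left fun y => by
      rw [S.P_B, ← hgi, g.apply_symm_apply, ← S.B_P, hL, S.K.neg_left]
      linear_combination hskew x y
    obtain ⟨δ, hδ0, hδ⟩ := S.H.exists_skew
    have hg1 : g * S.up c hc (δ • LinearMap.id) * g⁻¹ ∈ M :=
      M.mul_mem (M.mul_mem hg (S.up_scalar_mem hM hc0 hc hδ)) (M.inv_mem hg)
    obtain ⟨-, h1⟩ := ih hg1 (L := (-δ) • (L * L)) (fun x => by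
        show S.P c (g (S.up c hc (δ • LinearMap.id) (g.symm (S.t c x)))) = _
        rw [S.up_apply, map_add, g.apply_symm_apply, LinearMap.smul_apply, LinearMap.id_apply, hinv, map_add,
          S.P_pure, hc, zero_smul, zero_add]
        simp [hL, Module.End.mul_apply])
      (fun x y => by
        simp only [LinearMap.smul_apply, Module.End.mul_apply, S.K.smul_left, S.K.smul_right, map_neg, hδ]
        linear_combination (-δ) * hskew (L x) y + δ * hskew x (L y))
      (by rw [smul_pow, ← pow_two, ← pow_mul, ← pow_succ', hp, smul_zero])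
    exact S.zero_of_sq hM hS hba hg hc0 hc hL hskew ((smul_eq_zero.1 h1).resolve_left (neg_ne_zero.2 hδ0))

/-- The linking map of a singular vector of each factor. -/
noncomputable def lk (g : V ≃ₗ[F] V) (c : W) (y : X) : W →ₗ[F] X :=
  S.P c ∘ₗ g.toLinearMap ∘ₗ S.t.flip y

/-- Its adjoint. -/
noncomputable def lk' (g : V ≃ₗ[F] V) (c : W) (y : X) : X →ₗ[F] W :=
  S.flip.P y ∘ₗ g.symm.toLinearMap ∘ₗ S.t c

/-- Their product. -/
noncomputable def lkT (g : V ≃ₗ[F] V) (c : W) (y : X) : Module.End F X := S.lk g c y ∘ₗ S.lk' g c y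

theorem lk_adj {g : V ≃ₗ[F] V} (hg : S.IsIso g) (c : W) (y : X) (x : X) (w : W) :
    S.H.B (S.lk' g c y x) w = S.K.B x (S.lk g c y w) := by
  show S.H.B (S.flip.P y (g.symm (S.t c x))) w = S.K.B x (S.P c (g (S.t w y)))
  refine (S.flip.P_B y _ w).trans ?_
  rw [S.B_P, ← hg (g.symm _), g.apply_symm_apply]
  rfl

theorem lkT_self {g : V ≃ₗ[F] V} (hg : S.IsIso g) (c : W) (y : X) (x x' : X) :
    S.K.B (S.lkT g c y x) x' = S.K.B x (S.lkT g c y x') := by
  show S.K.B (S.lk g c y (S.lk' g c y x)) x' = S.K.B x (S.lk g c y (S.lk' g c y x'))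
  rw [← S.K.conj x', ← S.lk_adj hg, ← S.lk_adj hg, S.H.conj]

/-- A nilpotent linking map makes the element decomposable. -/
theorem dec_of_nilpotent (hM : S.Over M) (hS : S.Small M) (hS' : S.flip.Small M) (ha : 2 ≤ finrank F W)
    (hba : finrank F X < finrank F W) {g : V ≃ₗ[F] V} (hg : g ∈ M) {c : W} (hc0 : c ≠ 0) (hc : S.H.B c c = 0)
    {y : X} (hy0 : y ≠ 0) (hy : S.K.B y y = 0) (hT : IsNilpotent (S.lkT g c y)) : S.Dec g := by
  obtain ⟨n, hn⟩ := hT
  obtain ⟨δ, hδ0, hδ⟩ := S.H.exists_skew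
  set z := g * S.flip.up y hy (δ • LinearMap.id) * g⁻¹ with hz
  have hzM : z ∈ M := M.mul_mem (M.mul_mem hg (S.flip.up_scalar_mem (Over.flip S hM) hy0 hy hδ)) (M.inv_mem hg)
  have h := S.zero_of_nilpotent hM hS hba hc0 hc n hzM (L := δ • S.lkT g c y) (fun x => by
      show S.P c (g (S.flip.up y hy (δ • LinearMap.id) (g.symm (S.t c x)))) = _
      rw [S.flip.up_apply, map_add, g.apply_symm_apply, map_add, S.P_pure, hc, zero_smul, zero_add,
        LinearMap.smul_apply, LinearMap.id_apply, map_smul, map_smul, map_smul]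
      rfl)
    (fun x x' => by
      rw [LinearMap.smul_apply, LinearMap.smul_apply, S.K.smul_left, S.K.smul_right, hδ,
        S.lkT_self (hM.iso _ hg)]
      ring)
    (by rw [smul_pow, pow_eq_zero_of_le Nat.lt_two_pow_self.le hn, smul_zero])
  exact S.dec_of_conj_flip hM hS hS' ha hba hg hy0 hy hδ0 hδ h.1

/-- The decomposable product built from a scalar element. -/
theorem theta_star (hM : S.Over M) (hS : S.Small M) (hS' : S.flip.Small M) (ha : 3 ≤ finrank F W)
    (hba : finrank F X < finrank F W) {g : V ≃ₗ[F] V} (hg : g ∈ M) {c : W} (hc0 : c ≠ 0) (hc : S.H.B c c = 0)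
    {y : X} (hy0 : y ≠ 0) (hy : S.K.B y y = 0) {θ : F} (hθ0 : θ ≠ 0) (hθ : σ θ = θ)
    (hT : IsNilpotent (S.lkT g c y * (S.lkT g c y - θ • 1))) {δ : F} (hδ0 : δ ≠ 0) (hδ : σ δ = -δ) :
    ∃ (A : W →ₗ[F] W) (y' : X), y' ≠ 0 ∧ S.K.B y' y' = 0 ∧ ∀ w,
      g (S.t (w - θ⁻¹ • S.lk' g c y (S.lk g c y w)) y) = S.t (A w) y' - δ • S.t c (S.lk g c y w) := by
  have hgi := hM.iso _ hg
  set L := S.lk g c y with hLdef
  set L' := S.lk' g c y with hL'def
  set T := S.lkT g c y with hTdef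
  have hTx : ∀ x, T x = L (L' x) := fun x => rfl
  set τ := -(θ * δ)⁻¹ with hτ
  have hτσ : σ τ = -τ := by
    rw [hτ, map_neg, map_inv₀, map_mul, hθ, hδ, mul_neg, inv_neg]
  have hδτ : δ * τ = -θ⁻¹ := by rw [hτ]; field_simp
  set g' := g * S.flip.up y hy (τ • LinearMap.id) * g⁻¹ * S.up c hc (δ • LinearMap.id) * g with hg'
  have hg'M : g' ∈ M := M.mul_mem (M.mul_mem (M.mul_mem (M.mul_mem hg
    (S.flip.up_scalar_mem (Over.flip S hM) hy0 hy hτσ)) (M.inv_mem hg)) (S.up_scalar_mem hM hc0 hc hδ)) hg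
  let Ψ : W →ₗ[F] W := LinearMap.id - θ⁻¹ • (L' ∘ₗ L)
  have hΨ : ∀ w, Ψ w = w - θ⁻¹ • L' (L w) := fun w => rfl
  have hg'w : ∀ w, g' (S.t w y) = g (S.t (Ψ w) y) + δ • S.t c (L w) := fun w => by
    show g (S.flip.up y hy (τ • LinearMap.id) (g.symm (S.up c hc (δ • LinearMap.id) (g (S.t w y))))) = _
    rw [S.up_apply, map_add, g.symm_apply_apply, S.flip.up_apply, map_add (S.flip.P y)]
    have h1 : S.flip.P y (S.t w y) = (0 : W) := by
      rw [← S.flip_t, S.flip.P_pure]
      show S.K.B y y • w = 0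
      rw [hy, zero_smul]
    rw [h1, zero_add, LinearMap.smul_apply, LinearMap.id_apply, LinearMap.smul_apply, LinearMap.id_apply,
      map_smul (S.t c), map_smul g.symm, map_smul (S.flip.P y), S.flip_t]
    show g (S.t w y + δ • g.symm (S.t c (L w)) + S.t (τ • δ • L' (L w)) y) = _
    rw [map_add, map_add, map_smul g, g.apply_symm_apply, hΨ, smul_smul, mul_comm τ, hδτ]
    simp only [map_smul, map_sub, LinearMap.smul_apply, LinearMap.sub_apply]
    module
  have hlk : ∀ w, S.lk g' c y w = L (Ψ w) := fun w => by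
    show S.P c (g' (S.t w y)) = _
    rw [hg'w, map_add, map_smul, S.P_pure, hc, zero_smul, smul_zero, add_zero]
    rfl
  have hΨs : ∀ w u, S.H.B (Ψ w) u = S.H.B w (Ψ u) := fun w u => by
    rw [hΨ, hΨ, S.H.sub_left, S.H.sub_right, S.H.smul_left, S.H.smul_right, map_inv₀, hθ,
      hL'def, hLdef, S.lk_adj hgi, ← S.H.conj (S.lk' g c y _) w, S.lk_adj hgi, S.K.conj]
  have hlk' : ∀ x, S.lk' g' c y x = Ψ (L' x) := fun x => S.H.ext_left fun w => by
    rw [S.lk_adj (hM.iso _ hg'M), hlk, hΨs, hL'def, S.lk_adj hgi]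
  have hT' : S.lkT g' c y = (θ⁻¹ * θ⁻¹) • (T * (T - θ • 1) * (T - θ • 1)) := LinearMap.ext fun x => by
    show S.lk g' c y (S.lk' g' c y x) = _
    rw [hlk, hlk']
    simp only [hΨ, map_sub, map_smul, ← hTx, LinearMap.smul_apply, Module.End.mul_apply, LinearMap.sub_apply,
      Module.End.one_apply]
    match_scalars <;> field_simp
  have hg'dec : S.Dec g' := by
    refine S.dec_of_nilpotent hM hS hS' (by omega) hba hg'M hc0 hc hy0 hy ?_
    rw [hT']
    refine IsNilpotent.smul (Commute.isNilpotent_mul_right ?_ hT) _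
    exact ((Commute.refl T).sub_left ((Commute.one_left T).smul_left θ)).symm.mul_left (Commute.refl _)
  obtain ⟨A, B, hAB⟩ := hg'dec
  have hA : Function.Injective A := (S.dec_injective hAB).1
  set y' := B y with hy'
  have hy'0 : y' ≠ 0 := fun h => hy0 ((S.dec_injective hAB).2 (h.trans (map_zero B).symm))
  have hy'y' : S.K.B y' y' = 0 := by
    obtain ⟨ν, -, -, hν⟩ := S.dec_similitude (hM.iso _ hg'M) hAB
    rw [hy', hν, hy, mul_zero]
  have hstar : ∀ w, g (S.t (Ψ w) y) = S.t (A w) y' - δ • S.t c (L w) := fun w => by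
    rw [hy', ← hAB, hg'w, add_sub_cancel_right]
  exact ⟨A, y', hy'0, hy'y', fun w => by rw [← hΨ]; exact hstar w⟩

/-- A linking map annihilated by a power of `T (T - θ)` makes the element decomposable. -/
theorem dec_of_theta (hM : S.Over M) (hS : S.Small M) (hS' : S.flip.Small M) (ha : 3 ≤ finrank F W)
    (hba : finrank F X < finrank F W) (hex : ∃ r : F, σ r = r ∧ r ≠ 0 ∧ r ≠ 1) {g : V ≃ₗ[F] V} (hg : g ∈ M)
    {c : W} (hc0 : c ≠ 0) (hc : S.H.B c c = 0)
    {y : X} (hy0 : y ≠ 0) (hy : S.K.B y y = 0) {θ : F} (hθ0 : θ ≠ 0) (hθ : σ θ = θ)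
    (hT : IsNilpotent (S.lkT g c y * (S.lkT g c y - θ • 1))) : S.Dec g := by
  by_cases hTn : IsNilpotent (S.lkT g c y)
  · exact S.dec_of_nilpotent hM hS hS' (by omega) hba hg hc0 hc hy0 hy hTn
  exfalso
  have hgi := hM.iso _ hg
  set L := S.lk g c y with hLdef
  set L' := S.lk' g c y with hL'def
  set T := S.lkT g c y with hTdef
  have hTx : ∀ x, T x = L (L' x) := fun x => rfl
  obtain ⟨r, hr, hr0, hr1⟩ := hex
  obtain ⟨δ, hδ0, hδ⟩ := S.H.exists_skew
  obtain ⟨A, y', hy'0, hy'y', hstar⟩ := S.theta_star hM hS hS' ha hba hg hc0 hc hy0 hy hθ0 hθ hT hδ0 hδ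
  obtain ⟨A₂, y₂, -, -, hstar₂⟩ := S.theta_star hM hS hS' ha hba hg hc0 hc hy0 hy hθ0 hθ hT
    (mul_ne_zero hr0 hδ0) (show σ (r * δ) = -(r * δ) by rw [map_mul, hr, hδ, mul_neg])
  obtain ⟨e, -, hce⟩ := S.H.exists_partner hc0 hc
  have hker : ∀ {A : W →ₗ[F] W} {y' : X} {δ : F},
      (∀ w, g (S.t (w - θ⁻¹ • L' (L w)) y) = S.t (A w) y' - δ • S.t c (L w)) →
      ∀ w, w - θ⁻¹ • L' (L w) = 0 → δ • L w = S.H.B (A w) e • y' := by
    intro A y' δ hs w hw
    have h1 := hs w
    rw [hw, map_zero, LinearMap.zero_apply, map_zero, eq_comm, sub_eq_zero] at h1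
    have h2 := congrArg (S.P e) h1
    rw [S.P_pure, map_smul, S.P_pure, hce, one_smul] at h2
    exact h2.symm
  obtain ⟨x, hx0, hTθ⟩ : ∃ x, x ≠ 0 ∧ T x = θ • x := by
    by_contra hcon
    push Not at hcon
    have hinj : Function.Injective (T - θ • 1 : Module.End F X) := (injective_iff_map_eq_zero _).2 fun x hx => by
      by_contra h0
      exact hcon x h0 (sub_eq_zero.1 hx)
    obtain ⟨n, hn⟩ := hT
    have hc' : Commute T (T - θ • 1) := (Commute.refl T).sub_right ((Commute.one_right T).smul_right θ)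
    rw [hc'.mul_pow, (hc'.pow_pow n n).eq] at hn
    refine hTn ⟨n, LinearMap.ext fun v => ?_⟩
    have h1 := LinearMap.congr_fun hn v
    rw [Module.End.mul_apply] at h1
    have h2 : Function.Injective ((T - θ • 1 : Module.End F X) ^ n) := by
      rw [Module.End.coe_pow]; exact hinj.iterate n
    exact h2 (h1.trans (map_zero _).symm)
  set f' := L' x with hf'
  have hLf' : L f' = θ • x := by rw [hf', ← hTx, hTθ]
  have hΨf' : f' - θ⁻¹ • L' (L f') = 0 := by
    rw [hLf', map_smul, smul_smul, inv_mul_cancel₀ hθ0, one_smul, sub_self]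
  have h1 := hker hstar f' hΨf'
  have h2 := hker hstar₂ f' hΨf'
  rw [hLf', smul_smul] at h1 h2
  -- both vectors span the line of `x`
  obtain ⟨k₂, hk₂⟩ : ∃ k : F, y₂ = k • y' := by
    have hne : S.H.B (A₂ f') e ≠ 0 := fun h0 => by
      rw [h0, zero_smul, smul_eq_zero] at h2
      exact mul_ne_zero (mul_ne_zero hr0 hδ0) hθ0 (h2.resolve_right hx0)
    refine ⟨(S.H.B (A₂ f') e)⁻¹ * (r * S.H.B (A f') e), ?_⟩
    rw [← smul_smul, ← smul_smul, ← h1, smul_smul r, ← mul_assoc, h2, inv_smul_smul₀ hne]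
  have hL : ∀ w, ∃ k : F, L w = k • y' := fun w => by
    have e1 := (hstar w).symm.trans (hstar₂ w)
    have e2 := congrArg (S.P e) e1
    simp only [map_sub, map_smul, S.P_pure, hce, one_smul, hk₂] at e2
    refine ⟨((r - 1) * δ)⁻¹ * (S.H.B (A₂ w) e * k₂ - S.H.B (A w) e), ?_⟩
    rw [← smul_smul, eq_inv_smul_iff₀ (mul_ne_zero (sub_ne_zero.2 hr1) hδ0)]
    linear_combination (norm := module) e2
  obtain ⟨e', he'⟩ := S.K.exists_one hy'0
  obtain ⟨k, hk⟩ := hL (L' e')
  have hxy : ∃ ρ : F, x = ρ • y' := by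
    obtain ⟨k', hk'⟩ := hL f'
    refine ⟨θ⁻¹ * k', ?_⟩
    rw [← smul_smul, ← hk', hLf', inv_smul_smul₀ hθ0]
  obtain ⟨ρ, hρ⟩ := hxy
  have h3 := S.lkT_self hgi c y e' x
  rw [← hTdef, hTθ, show T e' = k • y' from hk, hρ, S.K.smul_left, S.K.smul_right, hy'y', S.K.smul_right,
    S.K.smul_right, S.K.eq_one_symm he', mul_zero, mul_zero, hθ, mul_one] at h3
  refine (mul_ne_zero hθ0 ((map_ne_zero σ).2 ?_)) h3.symm
  rintro rfl
  exact hx0 (by rw [hρ, zero_smul])

end Sys

end Cfsg.Agent.H58.TensorUnit3
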