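import Cfsg.Agent.H58.TensorUnit3.RootsBase

/-!
A non-scalar element at one singular factor space gives all skew elements at all of them, and then all
transvections.
-/

set_option autoImplicit false
set_option maxHeartbeats 1000000
set_option linter.style.haveILetI false
set_option linter.unusedSectionVars false

namespace Cfsg.Agent.H58.TensorUnit3

open Module

variable {F : Type*} [Field F] [Finite F] {σ : F ≃+* F} {V W X : Type*}
  [AddCommGroup V] [Module F V] [FiniteDimensional F V]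
  [AddCommGroup W] [Module F W] [FiniteDimensional F W]
  [AddCommGroup X] [Module F X] [FiniteDimensional F X]

namespace Herm

variable (h : Herm F σ X)

theorem dyad_add_left (u u' v : X) : h.dyad (u + u') v = h.dyad u v + h.dyad u' v :=
  LinearMap.ext fun x => by simp only [LinearMap.add_apply, h.dyad_apply, smul_add]

theorem dyad_smul_left (r : F) (u v : X) : h.dyad (r • u) v = r • h.dyad u v :=
  LinearMap.ext fun x => by simp only [LinearMap.smul_apply, h.dyad_apply, smul_comm r]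

theorem dyad_add_right (u v v' : X) : h.dyad u (v + v') = h.dyad u v + h.dyad u v' :=
  LinearMap.ext fun x => by simp only [LinearMap.add_apply, h.dyad_apply, h.add_right, add_smul]

theorem dyad_smul_right (r : F) (u v : X) : h.dyad u (r • v) = σ r • h.dyad u v :=
  LinearMap.ext fun x => by simp only [LinearMap.smul_apply, h.dyad_apply, h.smul_right, mul_smul]

theorem dyad_conj {Q : X ≃ₗ[F] X} (hQ : ∀ x y, h.B (Q x) (Q y) = h.B x y) (u v : X) :
    Q.toLinearMap ∘ₗ h.dyad u v ∘ₗ Q.symm.toLinearMap = h.dyad (Q u) (Q v) := LinearMap.ext fun x => by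
  simp only [LinearMap.comp_apply, LinearEquiv.coe_coe, h.dyad_apply, map_smul, h.symm_adj hQ]

/-- A conjugation invariant algebra containing one isotropic dyad is everything. -/
theorem algebra_top {Y : Submodule F (X →ₗ[F] X)} (hX : 2 ≤ finrank F X)
    (hmul : ∀ C ∈ Y, ∀ D ∈ Y, C ∘ₗ D ∈ Y)
    (htv : ∀ l v (hv : h.B v v = 0), σ l = -l → ∀ C ∈ Y,
      (h.tv l v hv).toLinearMap ∘ₗ C ∘ₗ (h.tv l v hv).symm.toLinearMap ∈ Y)
    {v₀ : X} (hv₀ : v₀ ≠ 0) (hv₀v : h.B v₀ v₀ = 0) (hN : h.dyad v₀ v₀ ∈ Y) (C : X →ₗ[F] X) : C ∈ Y := by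
  have hall : ∀ v, v ≠ 0 → h.B v v = 0 → h.dyad v v ∈ Y := by
    refine h.iso_induct hv₀ hv₀v hN (fun k x _ _ _ hx => ?_) (fun l u hu x hl _ _ hx => ?_)
    · rw [h.dyad_smul_left, h.dyad_smul_right]
      exact Y.smul_mem _ (Y.smul_mem _ hx)
    · rw [← h.dyad_conj (h.tv_iso hl hu)]
      exact htv l u hu hl _ hx
  have hnon : ∀ x y, h.B y x ≠ 0 → h.B x x = 0 → h.B y y = 0 → h.dyad x y ∈ Y := fun x y hxy hxx hyy => by
    have hx : x ≠ 0 := fun e => hxy (by rw [e, h.zero_right])
    have hy : y ≠ 0 := fun e => hxy (by rw [e, h.zero_left])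
    have h1 := hmul _ (hall x hx hxx) _ (hall y hy hyy)
    rw [h.dyad_comp] at h1
    have h2 := Y.smul_mem (h.B y x)⁻¹ h1
    rwa [smul_smul, inv_mul_cancel₀ hxy, one_smul] at h2
  have hiso : ∀ x y, h.B y y = 0 → h.dyad x y ∈ Y := fun x y hyy => by
    by_cases hy : y = 0
    · have : h.dyad x y = 0 := LinearMap.ext fun z => by rw [h.dyad_apply, hy, h.zero_right, zero_smul]; rfl
      rw [this]; exact Y.zero_mem
    obtain ⟨e, hee, hye⟩ := h.exists_partner hy hyy
    let D : Submodule F X :=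
      { carrier := {x | h.dyad x y ∈ Y}
        zero_mem' := by
          show h.dyad 0 y ∈ Y
          rw [show (0 : X) = (0 : F) • (0 : X) by simp, h.dyad_smul_left, zero_smul]; exact Y.zero_mem
        add_mem' := fun {a b} ha hb => by
          show h.dyad (a + b) y ∈ Y
          rw [h.dyad_add_left]; exact Y.add_mem ha hb
        smul_mem' := fun r a ha => by
          show h.dyad (r • a) y ∈ Y
          rw [h.dyad_smul_left]; exact Y.smul_mem r ha }
    exact h.le_of_nonorth (U := ⊤) (D := D) (v := y) (e := e) Submodule.mem_top Submodule.mem_top hyy hee hye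
      (fun u _ huu huy => hnon u y (fun h0 => huy (h.eq_zero_symm h0)) huu hyy) (Submodule.mem_top (x := x))
  have hdy : ∀ x y, h.dyad x y ∈ Y := fun x y => by
    obtain ⟨v, hv, hvv⟩ := h.exists_isotropic hX
    obtain ⟨e, hee, hve⟩ := h.exists_partner hv hvv
    let D : Submodule F X :=
      { carrier := {y | h.dyad x y ∈ Y}
        zero_mem' := hiso x 0 (h.zero_left 0)
        add_mem' := fun {a b} ha hb => by
          show h.dyad x (a + b) ∈ Y
          rw [h.dyad_add_right]; exact Y.add_mem ha hb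
        smul_mem' := fun r a ha => by
          show h.dyad x (r • a) ∈ Y
          rw [h.dyad_smul_right]; exact Y.smul_mem _ ha }
    exact h.le_of_nonorth (U := ⊤) (D := D) (v := v) (e := e) Submodule.mem_top Submodule.mem_top hvv hee hve
      (fun u _ huu _ => hiso x u huu) (Submodule.mem_top (x := y))
  obtain ⟨b, d, hb, -⟩ := h.exists_dual_basis
  have hC : C = ∑ i, h.dyad (C (b i)) (d i) := LinearMap.ext fun x => by
    conv_lhs => rw [← hb x]
    simp only [map_sum, map_smul, LinearMap.sum_apply, h.dyad_apply]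
  rw [hC]
  exact Y.sum_mem fun i _ => hdy _ _

theorem adj_add (A A' : X →ₗ[F] X) : h.adj (A + A') = h.adj A + h.adj A' :=
  LinearMap.ext fun y => h.ext_right fun x => by
    simp only [LinearMap.add_apply, h.B_adj, h.add_right, h.add_left]

theorem adj_smul (r : F) (A : X →ₗ[F] X) : h.adj (r • A) = σ r • h.adj A :=
  LinearMap.ext fun y => h.ext_right fun x => by
    simp only [LinearMap.smul_apply, h.B_adj, h.smul_left, h.smul_right, h.inv]

theorem adj_skew {A : X →ₗ[F] X} (hA : h.Skew A) : h.adj A = -A :=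
  LinearMap.ext fun y => h.ext_right fun x => by
    rw [h.B_adj, LinearMap.neg_apply, h.neg_right]
    exact eq_neg_of_add_eq_zero_left (hA x y)

theorem skew_sub_adj (A : X →ₗ[F] X) : h.Skew (A - h.adj A) := fun x y => by
  simp only [LinearMap.sub_apply, h.sub_left, h.sub_right, h.adj_B, h.B_adj]
  ring

/-- An orthonormal triple in characteristic two admits a unipotent isometry mixing its members. -/
theorem exists_mixing (h2 : (2 : F) = 0) {ω : F} (hω : ω * ω + ω + 1 = 0) (hσω : σ ω = ω * ω) {p q r : X}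
    (hp : h.B p p = 1) (hq : h.B q q = 1) (hr : h.B r r = 1) (hpq : h.B p q = 0) (hpr : h.B p r = 0)
    (hqr : h.B q r = 0) :
    ∃ Q : X ≃ₗ[F] X, (((Q : X ≃ₗ[F] X) : Module.End F X) - 1) ^ 4 = 0 ∧
      (∀ x y, h.B (Q x) (Q y) = h.B x y) ∧ Q p = p + q + r := by
  set y₁ := p + q + r with hy₁
  set y₂ := p + ω • q + (ω * ω) • r with hy₂
  set y₃ := p + (ω * ω) • q + ω • r with hy₃
  have hω3 : ω * (ω * ω) = 1 := by linear_combination (ω - 1) * hω
  let f : X →ₗ[F] X :=
    LinearMap.id + h.dyad (y₁ - p) p + h.dyad (y₂ - q) q + h.dyad (y₃ - r) r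
  let s : X →ₗ[F] X := LinearMap.id + h.dyad (r - q) q + h.dyad (q - r) r
  have hqp := h.eq_zero_symm hpq
  have hrp := h.eq_zero_symm hpr
  have hrq := h.eq_zero_symm hqr
  have hf : ∀ x, f x = x + h.B x p • (y₁ - p) + h.B x q • (y₂ - q) + h.B x r • (y₃ - r) := fun x => rfl
  have hs : ∀ x, s x = x + h.B x q • (r - q) + h.B x r • (q - r) := fun x => rfl
  have hfp : f p = y₁ := by rw [hf, hp, hpq, hpr]; module
  have hfq : f q = y₂ := by rw [hf, hqp, hq, hqr]; module
  have hfr : f r = y₃ := by rw [hf, hrp, hrq, hr]; module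
  have e1 : f y₁ = p := by
    rw [hy₁, map_add, map_add, hfp, hfq, hfr, hy₁, hy₂, hy₃]
    match_scalars
    · linear_combination h2
    · linear_combination hω
    · linear_combination hω
  have e2 : f y₂ = r := by
    rw [hy₂, map_add, map_add, map_smul, map_smul, hfp, hfq, hfr, hy₁, hy₂, hy₃]
    match_scalars
    · linear_combination hω
    · linear_combination (ω * ω - ω + 1) * hω
    · linear_combination h2 + 2 * hω3
  have e3 : f y₃ = q := by
    rw [hy₃, map_add, map_add, map_smul, map_smul, hfp, hfq, hfr, hy₁, hy₂, hy₃]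
    match_scalars
    · linear_combination hω
    · linear_combination h2 + 2 * hω3
    · linear_combination (ω * ω - ω + 1) * hω
  have hff : ∀ x, f (f x) = s x := fun x => by
    rw [hf x, map_add, map_add, map_add, map_smul, map_smul, map_smul, map_sub, map_sub, map_sub, hfp, hfq, hfr,
      e1, e2, e3, hf x, hs x]
    module
  have hsq : s q = r := by rw [hs, hq, hqr]; module
  have hsr : s r = q := by rw [hs, hrq, hr]; module
  have hss : ∀ x, s (s x) = x := fun x => by
    conv_lhs => rw [hs x]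
    rw [map_add, map_add, map_smul, map_smul, map_sub, map_sub, hsq, hsr, hs x]
    module
  have h4 : ∀ x, f (f (f (f x))) = x := fun x => by rw [hff, hff, hss]
  let Q : X ≃ₗ[F] X := LinearEquiv.ofLinearMap f (f ∘ₗ f ∘ₗ f) (LinearMap.ext h4) (LinearMap.ext h4)
  refine ⟨Q, ?_, fun x y => ?_, hfp⟩
  · haveI : Nontrivial X := ⟨⟨p, 0, fun e => by rw [e, h.zero_left] at hp; exact zero_ne_one hp⟩⟩
    haveI : Fact (Nat.Prime 2) := ⟨Nat.prime_two⟩
    haveI : CharP F 2 := CharTwo.of_one_ne_zero_of_two_eq_zero one_ne_zero h2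
    haveI : CharP (Module.End F X) 2 :=
      charP_of_injective_algebraMap (algebraMap F (Module.End F X)).injective 2
    have hpow : (Q : Module.End F X) ^ (2 ^ 2) = 1 := LinearMap.ext h4
    rw [show (4 : ℕ) = 2 ^ 2 by norm_num, sub_pow_char_pow_of_commute 2 2 (Commute.one_right _), one_pow, hpow,
      sub_self]
  · show h.B (f x) (f y) = h.B x y
    set z := x - h.B x p • p - h.B x q • q - h.B x r • r with hz
    set z' := y - h.B y p • p - h.B y q • q - h.B y r • r with hz'
    have hzp : h.B z p = 0 := by rw [hz]; simp only [h.sub_left, h.smul_left, hp, hqp, hrp]; ring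
    have hzq : h.B z q = 0 := by rw [hz]; simp only [h.sub_left, h.smul_left, hq, hpq, hrq]; ring
    have hzr : h.B z r = 0 := by rw [hz]; simp only [h.sub_left, h.smul_left, hr, hpr, hqr]; ring
    have hzp' : h.B z' p = 0 := by rw [hz']; simp only [h.sub_left, h.smul_left, hp, hqp, hrp]; ring
    have hzq' : h.B z' q = 0 := by rw [hz']; simp only [h.sub_left, h.smul_left, hq, hpq, hrq]; ring
    have hzr' : h.B z' r = 0 := by rw [hz']; simp only [h.sub_left, h.smul_left, hr, hpr, hqr]; ring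
    have hx : x = z + h.B x p • p + h.B x q • q + h.B x r • r := by rw [hz]; abel
    have hy : y = z' + h.B y p • p + h.B y q • q + h.B y r • r := by rw [hz']; abel
    have hfx : f x = z + h.B x p • y₁ + h.B x q • y₂ + h.B x r • y₃ := by rw [hf, hz]; module
    have hfy : f y = z' + h.B y p • y₁ + h.B y q • y₂ + h.B y r • y₃ := by rw [hf, hz']; module
    rw [hfx, hfy]
    conv_rhs => rw [hx, hy]
    simp only [hy₁, hy₂, hy₃, h.add_left, h.add_right, h.smul_left, h.smul_right, hp, hq, hr, hpq, hpr, hqr, hqp,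
      hrp, hrq, hzp, hzq, hzr, h.eq_zero_symm hzp', h.eq_zero_symm hzq', h.eq_zero_symm hzr', map_mul, hσω]
    linear_combination (h.B x p * σ (h.B y p) + h.B x q * σ (h.B y q) + h.B x r * σ (h.B y r)) * h2 +
      (h.B x p * σ (h.B y q) + h.B x p * σ (h.B y r) + h.B x q * σ (h.B y p) + h.B x r * σ (h.B y p)) * hω +
      h.B x q * σ (h.B y q) * ((ω - 1) * hω) + h.B x q * σ (h.B y q) * (ω * ω * ω + 1) * ((ω - 1) * hω) +
      h.B x r * σ (h.B y r) * ((ω - 1) * hω) + h.B x r * σ (h.B y r) * (ω * ω * ω + 1) * ((ω - 1) * hω) +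
      (h.B x q * σ (h.B y r) + h.B x r * σ (h.B y q)) * ((ω * ω - ω + 1) * hω) +
      (h.B x p * σ (h.B y q) * ω + h.B x r * σ (h.B y q) * (ω * ω) + h.B x p * σ (h.B y r) * ω +
        h.B x q * σ (h.B y r) * (ω * ω)) * ((ω - 1) * hω)

end Herm

namespace Sys

variable (S : Sys F σ V W X) {M : Subgroup (V ≃ₗ[F] V)}

/-- Cross elements. -/
theorem exists_cross (hM : S.Over M) {c e g : W} (hc : S.H.B c c = 0) (hee : S.H.B e e = 0)
    (hce : S.H.B c e = 1) (hg : g ∈ S.H.mid c e) (hgg : S.H.B g g = 0) {A : X →ₗ[F] X}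
    (hA : S.up c hc A ∈ M) :
    ∃ u ∈ M, S.Rad c u ∧ ∀ v, u v = v + S.t c (A (S.P g v)) + S.t g (A (S.P c v)) := by
  obtain ⟨hgc, hge⟩ := S.H.mem_mid.1 hg
  have hec := S.H.eq_one_symm hce
  obtain ⟨a, ha⟩ := S.H.ne
  have ha0 : a ≠ 0 := fun h => ha (by rw [h, map_zero])
  set ζ := σ a / a with hζ
  have hζ1 : ζ ≠ 1 := fun h => ha (by rwa [hζ, div_eq_one_iff_eq ha0] at h)
  have hζn : ζ * σ ζ = 1 := by
    rw [hζ, map_div₀, S.H.inv, div_mul_div_comm, mul_comm a, div_self]
    exact mul_ne_zero ((map_ne_zero σ).2 ha0) ha0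
  have hσ1 : σ (1 - ζ) ≠ 0 := (map_ne_zero σ).2 (sub_ne_zero.2 (Ne.symm hζ1))
  set f := (1 - ζ)⁻¹ • g with hf
  have hff : S.H.B f f = 0 := by rw [hf, S.H.smul_left, S.H.smul_right, hgg, mul_zero, mul_zero]
  have hfc : S.H.B f c = 0 := by rw [hf, S.H.smul_left, hgc, mul_zero]
  have hfe : S.H.B f e = 0 := by rw [hf, S.H.smul_left, hge, mul_zero]
  have key : ∀ (k : F) (A' : X →ₗ[F] X) (hk : S.H.B (c + k • f) (c + k • f) = 0),
      S.up c hc A' ∈ M → S.up (c + k • f) hk A' ∈ M := by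
    intro k A' hk hA'
    have hk0 : (0 : F) + σ 0 = -S.H.B (k • f) (k • f) := by
      rw [S.H.smul_left, S.H.smul_right, hff, map_zero]; ring
    have hke : S.H.B (k • f) e = 0 := by rw [S.H.smul_left, hfe, mul_zero]
    have h1 := S.up_transport hM (S.H.siegel_unipotent hee hke hk0) (S.H.siegel_iso hee hke hk0) hc hA'
    have h2 : S.H.siegel e (k • f) 0 hee hke hk0 c = c + k • f := by
      rw [S.H.siegel_apply, hce, S.H.smul_right, S.H.eq_zero_symm hfc]; simp
    simp only [h2] at h1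
    exact h1
  have hk1 : S.H.B (c + (1 : F) • f) (c + (1 : F) • f) = 0 := by
    simp [S.H.add_left, S.H.add_right, hc, hfc, S.H.eq_zero_symm hfc, hff]
  have hkζ : S.H.B (c + ζ • f) (c + ζ • f) = 0 := by
    simp [S.H.add_left, S.H.add_right, S.H.smul_left, S.H.smul_right, hc, hfc, S.H.eq_zero_symm hfc, hff]
  refine ⟨_, M.mul_mem (key 1 A hk1 hA) (key ζ (-A) hkζ (by rw [← S.up_inv]; exact M.inv_mem hA)), ?_⟩
  have hformula : ∀ v, (S.up (c + (1 : F) • f) hk1 A * S.up (c + ζ • f) hkζ (-A)) v =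
      v + S.t c (A (S.P g v)) + S.t g (A (S.P c v)) := by
    intro v
    have hg' : g = (1 - ζ) • f := by
      rw [hf, smul_smul, mul_inv_cancel₀ (sub_ne_zero.2 (Ne.symm hζ1)), one_smul]
    have h0 : S.H.B (c + ζ • f) (c + (1 : F) • f) = 0 := by
      simp [S.H.add_left, S.H.add_right, S.H.smul_left, hc, hfc, S.H.eq_zero_symm hfc, hff]
    rw [LinearEquiv.mul_apply, S.up_apply, S.up_apply, map_add (S.P _), S.P_pure, h0, zero_smul, add_zero, hg']
    simp only [S.P_add, S.P_smul, map_add, map_smul, map_neg, LinearMap.add_apply, LinearMap.smul_apply,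
      LinearMap.neg_apply, map_one, map_sub]
    match_scalars
    · ring
    · ring
    · ring
    · ring
    · linear_combination -hζn
  refine ⟨⟨fun x => ?_, fun v hv => ⟨A (S.P g v), ?_⟩⟩, hformula⟩
  · rw [hformula, S.P_pure, S.P_pure, hc, S.H.eq_zero_symm hgc]
    simp
  · rw [hformula, hv, map_zero, map_zero, add_zero, add_sub_cancel_left]

/-- All skew maps at one singular vector. -/
theorem rad_full (hM : S.Over M) (ha : 4 ≤ finrank F W) (hb : 2 ≤ finrank F X)
    (hex : (∃ r : F, σ r = r ∧ r ≠ 0 ∧ r ≠ 1) ∨ 3 ≤ finrank F X) {c : W} (hc0 : c ≠ 0) (hc : S.H.B c c = 0)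
    {A₀ : X →ₗ[F] X} (hA₀ : S.up c hc A₀ ∈ M) (hns : ∀ k : F, A₀ ≠ k • LinearMap.id) :
    ∀ A, S.K.Skew A → S.up c hc A ∈ M := by
  obtain ⟨e, hee, hce⟩ := S.H.exists_partner hc0 hc
  have hec := S.H.eq_one_symm hce
  obtain ⟨g, g', hg, hg', hgg, hg'g', hgg'⟩ := S.H.exists_pair_mid ha hc hee hce
  set R := S.radGrp M c hc with hR
  have hcomm : ∀ A ∈ R, ∀ A' ∈ R, ∀ h : F, -(h • (A' ∘ₗ A)) + σ h • (A ∘ₗ A') ∈ R := by
    intro A hA A' hA' h
    have hAs := S.radGrp_skew hM hc0 hc hA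
    have hAs' := S.radGrp_skew hM hc0 hc hA'
    obtain ⟨u, hu, hur, huv⟩ := S.exists_cross hM hc hee hce hg hgg hA
    have hg'2 : σ h • g' ∈ S.H.mid c e := Submodule.smul_mem _ _ hg'
    obtain ⟨u', hu', hur', huv'⟩ := S.exists_cross hM hc hee hce hg'2
      (by rw [S.H.smul_left, S.H.smul_right, hg'g', mul_zero, mul_zero]) hA'
    obtain ⟨K, hK, hK'⟩ := S.rad_comm hM hc hce hu hu' hur hur'
    have hPe : ∀ k ∈ S.H.mid c e, ∀ z, S.P k (S.t e z) = 0 := fun k hk z => by
      rw [S.P_pure, S.H.eq_zero_symm (S.H.mem_mid.1 hk).2, zero_smul]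
    have e1 : ∀ z, u (S.t e z) - S.t e z = S.t g (A z) := fun z => by
      rw [huv, hPe g hg, map_zero, map_zero, add_zero, S.P_pure, hec, one_smul, add_sub_cancel_left]
    have e2 : ∀ z, u' (S.t e z) - S.t e z = S.t (σ h • g') (A' z) := fun z => by
      rw [huv', hPe _ hg'2, map_zero, map_zero, add_zero, S.P_pure, hec, one_smul, add_sub_cancel_left]
    suffices K = -(h • (A' ∘ₗ A)) + σ h • (A ∘ₗ A') by rw [← this]; exact hK
    refine LinearMap.ext fun z => S.K.ext_left fun y => ?_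
    rw [hK', e1, e1, e2, e2, S.ω_pure, S.ω_pure, S.H.smul_right, S.H.smul_left, hgg', S.H.inv,
      S.H.eq_one_symm hgg']
    simp only [LinearMap.add_apply, LinearMap.neg_apply, LinearMap.smul_apply, LinearMap.comp_apply, S.K.add_left,
      S.K.neg_left, S.K.smul_left]
    linear_combination h * hAs' (A z) y - σ h * hAs (A' z) y
  obtain ⟨δ, hδ0, hδ⟩ := S.H.exists_skew
  have hδR : δ • LinearMap.id ∈ R := S.up_scalar_mem hM hc0 hc hδ
  obtain ⟨τ, hτ⟩ := S.H.exists_trace 1 (map_one σ)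
  have hreal : ∀ A ∈ R, ∀ r : F, σ r = r → r • A ∈ R := by
    intro A hA r hr
    have h1 := hcomm A hA _ hδR (-(τ * r) / δ)
    have h2 : -((-(τ * r) / δ) • ((δ • LinearMap.id) ∘ₗ A)) + σ (-(τ * r) / δ) • (A ∘ₗ (δ • LinearMap.id)) =
        r • A := LinearMap.ext fun x => by
      simp only [LinearMap.add_apply, LinearMap.neg_apply, LinearMap.smul_apply, LinearMap.comp_apply,
        LinearMap.id_apply, map_smul, map_div₀, map_neg, map_mul, hr, hδ]
      match_scalars
      field_simp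
      linear_combination r * hτ
    rwa [h2] at h1
  obtain ⟨a, haσ⟩ := S.H.ne
  set Y := Submodule.span F (R : Set (X →ₗ[F] X)) with hY
  have hRY : ∀ A ∈ R, A ∈ Y := fun A hA => Submodule.subset_span hA
  have hmul : ∀ C ∈ Y, ∀ D ∈ Y, C ∘ₗ D ∈ Y := by
    have hgen : ∀ A' ∈ R, ∀ A ∈ R, A' ∘ₗ A ∈ Y := by
      intro A' hA' A hA
      have h1 := hRY _ (hcomm A hA A' hA' 1)
      have h2 := hRY _ (hcomm A hA A' hA' a)
      have h3 := Y.smul_mem (σ a - a)⁻¹ (Y.sub_mem h2 (Y.smul_mem (σ a) h1))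
      convert h3 using 1
      rw [map_one, eq_inv_smul_iff₀ (sub_ne_zero.2 haσ)]
      module
    intro C hC D hD
    induction hC using Submodule.span_induction with
    | mem C hC =>
      induction hD using Submodule.span_induction with
      | mem D hD => exact hgen C hC D hD
      | zero => rw [LinearMap.comp_zero]; exact Y.zero_mem
      | add D D' _ _ h1 h2 => rw [LinearMap.comp_add]; exact Y.add_mem h1 h2
      | smul r D _ h1 => rw [LinearMap.comp_smul]; exact Y.smul_mem r h1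
    | zero => rw [LinearMap.zero_comp]; exact Y.zero_mem
    | add C C' _ _ h1 h2 => rw [LinearMap.add_comp]; exact Y.add_mem h1 h2
    | smul r C _ h1 => rw [LinearMap.smul_comp]; exact Y.smul_mem r h1
  have hconj : ∀ (Q : X ≃ₗ[F] X) (n : ℕ), ((Q : Module.End F X) - 1) ^ n = 0 →
      (∀ x y, S.K.B (Q x) (Q y) = S.K.B x y) →
      ∀ C ∈ Y, Q.toLinearMap ∘ₗ C ∘ₗ Q.symm.toLinearMap ∈ Y := by
    intro Q n hQu hQ C hC
    induction hC using Submodule.span_induction with
    | mem C hC => exact hRY _ (S.up_conj_mem hM hQu hQ hc hC)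
    | zero => rw [LinearMap.zero_comp, LinearMap.comp_zero]; exact Y.zero_mem
    | add C C' _ _ h1 h2 => rw [LinearMap.add_comp, LinearMap.comp_add]; exact Y.add_mem h1 h2
    | smul r C _ h1 => rw [LinearMap.smul_comp, LinearMap.comp_smul]; exact Y.smul_mem r h1
  have hskew := S.radGrp_skew hM hc0 hc hA₀
  obtain ⟨v, hvv, hκ⟩ : ∃ v, S.K.B v v = 0 ∧ S.K.B (A₀ v) v ≠ 0 := by
    by_contra hcon
    push Not at hcon
    obtain ⟨k, hk⟩ := S.K.scalar_of_iso hb hskew hcon
    exact hns k hk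
  set w := A₀ v with hw
  set κ := S.K.B w v with hκdef
  have hσκ : σ κ = -κ := hskew.self S.K v
  let B : F → (X →ₗ[F] X) := fun l =>
    (-l) • (S.K.dyad w v + S.K.dyad v w) + (-(l * l * κ)) • S.K.dyad v v
  have hB : ∀ l, σ l = -l → B l ∈ R := fun l hl => by
    have h1 := S.up_conj_mem hM (S.K.tv_unipotent l hvv) (S.K.tv_iso hl hvv) hc hA₀
    have h2 : B l = (S.K.tv l v hvv).toLinearMap ∘ₗ A₀ ∘ₗ (S.K.tv l v hvv).symm.toLinearMap - A₀ :=
      LinearMap.ext fun x => (S.diff_tv hskew l hvv x).symm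
    rw [h2]
    exact R.sub_mem ((S.mem_radGrp hc).2 h1) ((S.mem_radGrp hc).2 hA₀)
  obtain ⟨v₀, hv₀, hv₀v, hN⟩ : ∃ v₀, v₀ ≠ 0 ∧ S.K.B v₀ v₀ = 0 ∧ S.K.dyad v₀ v₀ ∈ Y := by
    have hv0 : v ≠ 0 := fun h => hκ (by rw [hκdef, h, S.K.zero_right])
    by_cases hq : ∃ r : F, σ r = r ∧ r ≠ 0 ∧ r ≠ 1
    · obtain ⟨r, hr, hr0, hr1⟩ := hq
      refine ⟨v, hv0, hvv, ?_⟩
      have h1 := Y.sub_mem (hRY _ (hB (r * δ) (by rw [map_mul, hr, hδ, mul_neg])))
        (Y.smul_mem r (hRY _ (hB δ hδ)))
      have h2 := Y.smul_mem (-((r * r - r) * (δ * δ * κ)))⁻¹ h1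
      convert h2 using 1
      rw [eq_inv_smul_iff₀ (neg_ne_zero.2 (mul_ne_zero
        (by rw [show r * r - r = r * (r - 1) by ring]; exact mul_ne_zero hr0 (sub_ne_zero.2 hr1))
        (mul_ne_zero (mul_ne_zero hδ0 hδ0) hκ)))]
      module
    · have hb3 : 3 ≤ finrank F X := hex.resolve_left hq
      push Not at hq
      have h2 : (2 : F) = 0 := by
        by_contra h2
        exact h2 (absurd (hq 2 (map_ofNat σ 2) h2) (fun e => one_ne_zero (α := F) (by linear_combination e)))
      have hneg : ∀ r : F, -r = r := fun r => by linear_combination (-r) * h2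
      have hreal1 : ∀ r : F, σ r = r → r ≠ 0 → r = 1 := hq
      have hκ1 : κ = 1 := hreal1 κ (by rw [hσκ, hneg]) hκ
      have hvw : S.K.B v w = 1 := by rw [← S.K.conj w v, ← hκdef, hκ1, map_one]
      have hBv : ∀ x, B 1 x = S.K.B x v • w + S.K.B x w • v + S.K.B x v • v := fun x => by
        simp only [B, LinearMap.add_apply, LinearMap.smul_apply, Herm.dyad_apply, hκ1, hneg, mul_one, one_smul]
      have hwv : S.K.B w v = 1 := hκ1
      have hBY : B 1 ∈ Y := hRY _ (hB 1 (by rw [map_one, hneg]))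
      by_cases hω : S.K.B w w = 0
      · refine ⟨v, hv0, hvv, ?_⟩
        convert Y.sub_mem (hmul _ hBY _ hBY) hBY using 1
        refine LinearMap.ext fun x => ?_
        rw [Herm.dyad_apply, LinearMap.sub_apply, LinearMap.comp_apply, hBv (B 1 x), hBv x]
        simp only [S.K.add_left, S.K.smul_left, hvv, hwv, hvw, hω]
        match_scalars <;>
          first | ring1 | linear_combination (-S.K.B x v) * h2 | linear_combination (S.K.B x v) * h2
      · have hω1 : S.K.B w w = 1 := hreal1 _ (S.K.self_real w) hω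
        obtain ⟨p₁, hp₁⟩ : ∃ p₁, p₁ = w := ⟨w, rfl⟩
        obtain ⟨p₂, hp₂⟩ : ∃ p₂, p₂ = v + w := ⟨_, rfl⟩
        have h11 : S.K.B p₁ p₁ = 1 := by rw [hp₁]; exact hω1
        have h22 : S.K.B p₂ p₂ = 1 := by
          rw [hp₂, S.K.add_left, S.K.add_right, S.K.add_right, hvv, hvw, hwv, hω1]; linear_combination h2
        have h12 : S.K.B p₁ p₂ = 0 := by
          rw [hp₁, hp₂, S.K.add_right, hwv, hω1]; linear_combination h2
        have h21 := S.K.eq_zero_symm h12
        set E : X →ₗ[F] X := S.K.dyad p₁ p₁ + S.K.dyad p₂ p₂ with hE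
        have hEY : E ∈ Y := by
          convert hBY using 1
          refine LinearMap.ext fun x => ?_
          rw [hBv, hE, LinearMap.add_apply, Herm.dyad_apply, Herm.dyad_apply, hp₁, hp₂, S.K.add_right]
          match_scalars <;>
            first | ring1 | linear_combination (S.K.B x w) * h2 | linear_combination (-S.K.B x w) * h2
        obtain ⟨r, hr1, hr2, hrr⟩ : ∃ r, S.K.B r p₁ = 0 ∧ S.K.B r p₂ = 0 ∧ S.K.B r r = 1 := by
          suffices ∃ r ∈ S.K.mid p₁ p₂, S.K.B r r ≠ 0 by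
            obtain ⟨r, hr, hrr⟩ := this
            exact ⟨r, (S.K.mem_mid.1 hr).1, (S.K.mem_mid.1 hr).2, hreal1 _ (S.K.self_real r) hrr⟩
          by_contra hcon
          push Not at hcon
          have hmid := S.K.finrank_mid p₁ p₂
          obtain ⟨z₀, hz₀, hz₀0⟩ := Submodule.exists_mem_ne_zero_of_ne_bot (p := S.K.mid p₁ p₂) fun h => by
            rw [h, finrank_bot] at hmid; omega
          refine hz₀0 (S.K.nd _ fun x => ?_)
          obtain ⟨hz1, hz2⟩ := S.K.mem_mid.1 hz₀
          set z := x - S.K.B x p₁ • p₁ - S.K.B x p₂ • p₂ with hz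
          have hzm : z ∈ S.K.mid p₁ p₂ := S.K.mem_mid.2
            ⟨by rw [hz]; simp only [S.K.sub_left, S.K.smul_left, h11, h21]; ring,
             by rw [hz]; simp only [S.K.sub_left, S.K.smul_left, h22, h12]; ring⟩
          have e1 := hcon _ ((S.K.mid p₁ p₂).add_mem hz₀ hzm)
          have e2 := hcon _ ((S.K.mid p₁ p₂).add_mem ((S.K.mid p₁ p₂).smul_mem a hz₀) hzm)
          simp only [S.K.add_left, S.K.add_right, S.K.smul_left, S.K.smul_right, hcon _ hz₀, hcon _ hzm] at e1 e2
          have e3 : S.K.B z₀ z = 0 := (mul_eq_zero.1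
            (show (σ a - a) * S.K.B z₀ z = 0 by linear_combination σ a * e1 - e2)).resolve_left (sub_ne_zero.2 haσ)
          rw [show x = z + S.K.B x p₁ • p₁ + S.K.B x p₂ • p₂ by rw [hz]; abel, S.K.add_right, S.K.add_right,
            S.K.smul_right, S.K.smul_right, e3, hz1, hz2]
          ring
        have h1r := S.K.eq_zero_symm hr1
        have h2r := S.K.eq_zero_symm hr2
        have huu : S.K.B (p₁ + r) (p₁ + r) = 0 := by
          rw [S.K.add_left, S.K.add_right, S.K.add_right, h11, hrr, h1r, hr1]; linear_combination h2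
        have hl1 : σ (1 : F) = -1 := by rw [map_one, hneg]
        obtain ⟨T, hT⟩ : ∃ T, T = S.K.tv 1 (p₁ + r) huu := ⟨_, rfl⟩
        have hTi : ∀ x y, S.K.B (T x) (T y) = S.K.B x y := by rw [hT]; exact S.K.tv_iso hl1 huu
        have hT1 : T p₁ = r := by
          rw [hT, S.K.tv_apply, S.K.add_right, h11, h1r]
          match_scalars <;> first | ring1 | linear_combination h2 | linear_combination -h2
        have hT2 : T p₂ = p₂ := by rw [hT, S.K.tv_apply, S.K.add_right, h21, h2r]; module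
        have hE2 : S.K.dyad p₂ p₂ ∈ Y := by
          have hTE : T.toLinearMap ∘ₗ E ∘ₗ T.symm.toLinearMap = S.K.dyad r r + S.K.dyad p₂ p₂ := by
            rw [hE, LinearMap.add_comp, LinearMap.comp_add, S.K.dyad_conj hTi, S.K.dyad_conj hTi, hT1, hT2]
          have h3 := hmul _ (hconj T 2 (by rw [hT]; exact S.K.tv_unipotent 1 huu) hTi E hEY) E hEY
          rw [hTE, hE,
            LinearMap.add_comp, LinearMap.comp_add, LinearMap.comp_add, Herm.dyad_comp, Herm.dyad_comp,
            Herm.dyad_comp, Herm.dyad_comp, h1r, h2r, h12, h22] at h3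
          simpa using h3
        have hE1 : S.K.dyad p₁ p₁ ∈ Y := by
          have := Y.sub_mem hEY hE2
          rwa [hE, add_sub_cancel_right] at this
        obtain ⟨haa, hta⟩ : a * σ a = 1 ∧ a + σ a = 1 := by
          have ha0 : a ≠ 0 := fun h => haσ (by rw [h, map_zero])
          refine ⟨hreal1 _ (by rw [map_mul, S.H.inv, mul_comm]) (mul_ne_zero ha0 ((map_ne_zero σ).2 ha0)),
            hreal1 _ (by rw [map_add, S.H.inv, add_comm]) fun h => haσ ?_⟩
          linear_combination h - a * h2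
        obtain ⟨Q, hQu, hQ, hQp⟩ := S.K.exists_mixing h2 (ω := a)
          (by linear_combination a * hta - haa + (1 - σ a * a + a) * h2 + (σ a * a - a) * h2 + (a - 1) * h2)
          (by linear_combination hta - (a * hta - haa) - a * h2 - 1 * h2 + h2 + h2) h11 h22 hrr h12 h1r h2r
        have hEy : S.K.dyad (p₁ + p₂ + r) (p₁ + p₂ + r) ∈ Y := by
          have h3 := hconj Q _ hQu hQ _ hE1
          rwa [S.K.dyad_conj hQ, hQp] at h3
        have hcross1 : S.K.dyad p₁ p₂ ∈ Y := by
          have h3 := hmul _ (hmul _ hE1 _ hEy) _ hE2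
          rw [Herm.dyad_comp, LinearMap.smul_comp, Herm.dyad_comp] at h3
          simpa [S.K.add_left, S.K.add_right, h11, h22, h12, h21, hr1, hr2, h1r, h2r] using h3
        have hcross2 : S.K.dyad p₂ p₁ ∈ Y := by
          have h3 := hmul _ (hmul _ hE2 _ hEy) _ hE1
          rw [Herm.dyad_comp, LinearMap.smul_comp, Herm.dyad_comp] at h3
          simpa [S.K.add_left, S.K.add_right, h11, h22, h12, h21, hr1, hr2, h1r, h2r] using h3
        refine ⟨p₁ + p₂, fun h0 => ?_, by
          rw [S.K.add_left, S.K.add_right, S.K.add_right, h11, h22, h12, h21]; linear_combination h2, ?_⟩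
        · have h5 := congrArg (fun x => S.K.B x p₁) h0
          simp [S.K.add_left, h11, h21] at h5
        · rw [Herm.dyad_add_left, Herm.dyad_add_right, Herm.dyad_add_right]
          exact Y.add_mem (Y.add_mem hE1 hcross1) (Y.add_mem hcross2 hE2)
  have htop := S.K.algebra_top hb hmul (fun l u hu hl => hconj _ 2 (S.K.tv_unipotent l hu) (S.K.tv_iso hl hu))
    hv₀ hv₀v hN
  intro A hA
  have key : ∀ C ∈ Y, ∀ ρ : F, ρ • C - S.K.adj (ρ • C) ∈ R := by
    intro C hC
    induction hC using Submodule.span_induction with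
    | mem C hC =>
      intro ρ
      rw [S.K.adj_smul, S.K.adj_skew (S.radGrp_skew hM hc0 hc hC), smul_neg, sub_neg_eq_add, ← add_smul]
      exact hreal C hC _ (by rw [map_add, S.H.inv, add_comm])
    | zero =>
      intro ρ
      have : ρ • (0 : X →ₗ[F] X) - S.K.adj (ρ • 0) = 0 := by
        rw [smul_zero, zero_sub, neg_eq_zero, ← zero_smul F (0 : X →ₗ[F] X), S.K.adj_smul, map_zero, zero_smul,
          zero_smul]
      rw [this]; exact R.zero_mem
    | add C C' _ _ h1 h2 =>
      intro ρ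
      rw [smul_add, S.K.adj_add, add_sub_add_comm]
      exact R.add_mem (h1 ρ) (h2 ρ)
    | smul r C _ h1 =>
      intro ρ
      rw [smul_smul]
      exact h1 _
  have h1 := key _ (htop A) τ
  rwa [S.K.adj_smul, S.K.adj_skew hA, smul_neg, sub_neg_eq_add, ← add_smul, hτ, one_smul] at h1

/-- All transvections. -/
theorem tv_mem (hM : S.Over M) (ha : 4 ≤ finrank F W) (hb : 2 ≤ finrank F X)
    (hex : (∃ r : F, σ r = r ∧ r ≠ 0 ∧ r ≠ 1) ∨ 3 ≤ finrank F X) (hns : ¬ S.Small M)
    (v : V) (hv : S.Ω.B v v = 0) (l : F) (hl : σ l = -l) : S.Ω.tv l v hv ∈ M := by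
  rw [Small] at hns
  push Not at hns
  obtain ⟨c₀, hc₀0, hc₀, A₀, hA₀, hA₀ns⟩ := hns
  have hall : ∀ c, c ≠ 0 → S.H.B c c = 0 → ∀ (hc : S.H.B c c = 0) A, S.K.Skew A → S.up c hc A ∈ M := by
    refine S.H.iso_induct hc₀0 hc₀ (p := fun c => ∀ (hc : S.H.B c c = 0) A, S.K.Skew A → S.up c hc A ∈ M)
      (fun hc A hA => S.rad_full hM ha hb hex hc₀0 hc₀ hA₀ hA₀ns A hA) (fun k c hk hc0 hcc hp => ?_)
      (fun m u hu c hm hc0 hcc hp => ?_)
    · intro hc A hA
      have h1 := hp hcc ((k * σ k) • A) (fun x y => by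
        simp only [LinearMap.smul_apply, S.K.smul_left, S.K.smul_right, map_mul, S.K.inv]
        linear_combination (k * σ k) * hA x y)
      convert h1 using 1
      refine LinearEquiv.ext fun p => ?_
      simp only [S.up_apply, S.P_smul, map_smul, LinearMap.smul_apply, smul_smul, mul_comm k]
    · intro hc A hA
      exact S.up_transport hM (S.H.tv_unipotent m hu) (S.H.tv_iso hm hu) hcc (hp hcc A hA)
  -- transvections at the vectors of singular factor spaces
  have hroot0 : ∀ c, c ≠ 0 → ∀ hc : S.H.B c c = 0, ∀ y m (hcy : S.Ω.B (S.t c y) (S.t c y) = 0), σ m = -m →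
      S.Ω.tv m (S.t c y) hcy ∈ M := by
    intro c hc0 hc y m hcy hm
    have h1 := hall c hc0 hc hc (m • S.K.dyad y y) (fun p q => by
      simp only [LinearMap.smul_apply, Herm.dyad_apply, S.K.smul_left, S.K.smul_right, hm, S.K.conj]
      ring)
    convert h1 using 1
    refine LinearEquiv.ext fun p => ?_
    rw [Herm.tv_apply, S.up_apply, LinearMap.smul_apply, Herm.dyad_apply, map_smul, map_smul, S.P_B]
  by_cases hv0 : v = 0
  · convert M.one_mem using 1
    refine LinearEquiv.ext fun p => ?_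
    rw [Herm.tv_apply, hv0]
    simp
  obtain ⟨c, hc0, hc, hy0⟩ : ∃ c, c ≠ 0 ∧ S.H.B c c = 0 ∧ S.P c v ≠ 0 := by
    by_contra hcon
    push Not at hcon
    let D : Submodule F W :=
      { carrier := {u | S.P u v = 0}
        zero_mem' := by
          show S.P 0 v = 0
          rw [← zero_smul F (0 : W), S.P_smul, map_zero, zero_smul]
        add_mem' := fun {u u'} h1 h2 => by
          show S.P (u + u') v = 0
          rw [S.P_add, show S.P u v = 0 from h1, show S.P u' v = 0 from h2, add_zero]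
        smul_mem' := fun r u h1 => by
          show S.P (r • u) v = 0
          rw [S.P_smul, show S.P u v = 0 from h1, smul_zero] }
    obtain ⟨e, hee, hce⟩ := S.H.exists_partner hc₀0 hc₀
    have htop := S.H.le_of_nonorth (U := ⊤) (D := D) Submodule.mem_top Submodule.mem_top hc₀ hee hce
      (fun u _ huu hu0 => hcon u (fun h => hu0 (by rw [h, S.H.zero_left])) huu)
    refine hv0 (S.eq_of_P fun u => ?_)
    rw [map_zero]
    exact htop (Submodule.mem_top (x := u))
  set y := S.P c v with hy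
  obtain ⟨e, hee, hce⟩ := S.H.exists_partner hc0 hc
  have hec := S.H.eq_one_symm hce
  -- clearing the middle
  let D : AddSubmonoid V :=
    { carrier := {m | S.P c m = 0 ∧ ∀ p, S.P c p = y → ∃ h ∈ M, ∃ a, h p = p + m + S.t c a}
      zero_mem' := ⟨map_zero _, fun p _ => ⟨1, M.one_mem, 0, by simp⟩⟩
      add_mem' := fun {m m'} hm hm' => ⟨by rw [map_add, hm.1, hm'.1, add_zero], fun p hp => by
        obtain ⟨h, hh, a, hha⟩ := hm.2 p hp
        obtain ⟨h', hh', a', hha'⟩ := hm'.2 (h p)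
          (by rw [hha, map_add, map_add, hp, hm.1, S.P_pure, hc, zero_smul, add_zero, add_zero])
        exact ⟨h' * h, M.mul_mem hh' hh, a + a', by rw [LinearEquiv.mul_apply, hha', hha, map_add]; abel⟩⟩ }
  have hbase : ∀ g ∈ S.H.mid c e, S.H.B g g = 0 → ∀ A, S.K.Skew A → S.t g (A y) ∈ D := by
    intro g hg hgg A hA
    refine ⟨by rw [S.P_pure, (S.H.mem_mid.1 hg).1, zero_smul], fun p hp => ?_⟩
    obtain ⟨u, hu, -, huv⟩ := S.exists_cross hM hc hee hce hg hgg (hall c hc0 hc hc A hA)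
    exact ⟨u, hu, A (S.P g p), by rw [huv, hp]; abel⟩
  obtain ⟨a, haσ⟩ := S.H.ne
  have hbase2 : ∀ g ∈ S.H.mid c e, S.H.B g g = 0 → ∀ C : X →ₗ[F] X, S.t g (C y) ∈ D := by
    intro g hg hgg C
    have h1 : C = (a - σ a)⁻¹ • ((a • C - S.K.adj (a • C)) - σ a • (C - S.K.adj C)) := by
      rw [S.K.adj_smul, eq_inv_smul_iff₀ (sub_ne_zero.2 (Ne.symm haσ))]; module
    have h2 : S.t g (C y) = S.t ((a - σ a)⁻¹ • g) ((a • C - S.K.adj (a • C)) y) +
        S.t ((-((a - σ a)⁻¹ * σ a)) • g) ((C - S.K.adj C) y) := by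
      conv_lhs => rw [h1]
      simp only [LinearMap.smul_apply, LinearMap.sub_apply, map_sub, map_smul]
      module
    rw [h2]
    refine D.add_mem (hbase _ (Submodule.smul_mem _ _ hg) ?_ _ (S.K.skew_sub_adj _))
      (hbase _ (Submodule.smul_mem _ _ hg) ?_ _ (S.K.skew_sub_adj _))
    all_goals rw [S.H.smul_left, S.H.smul_right, hgg, mul_zero, mul_zero]
  obtain ⟨g₀, g₁, hg₀, hg₁, hg₀₀, hg₁₁, hg₀₁⟩ := S.H.exists_pair_mid ha hc hee hce
  let G : Submodule F W :=
    { carrier := {g | ∀ C : X →ₗ[F] X, S.t g (C y) ∈ D}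
      zero_mem' := fun C => by simp
      add_mem' := fun {g g'} h1 h2 C => by
        rw [map_add, LinearMap.add_apply]; exact D.add_mem (h1 C) (h2 C)
      smul_mem' := fun r g h1 C => by
        rw [map_smul, LinearMap.smul_apply, ← map_smul, ← LinearMap.smul_apply]; exact h1 _ }
  have hG : S.H.mid c e ≤ G :=
    S.H.le_of_nonorth hg₀ hg₁ hg₀₀ hg₁₁ hg₀₁ fun u hu huu _ C => hbase2 u hu huu C
  set m₀ := v - S.t e y - S.t c (S.P e v) with hm₀
  have hm₀c : S.P c m₀ = 0 := by
    rw [hm₀, map_sub, map_sub, S.P_pure, S.P_pure, hec, hc, one_smul, zero_smul, sub_zero, ← hy, sub_self]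
  have hm₀e : S.P e m₀ = 0 := by
    rw [hm₀, map_sub, map_sub, S.P_pure, S.P_pure, hee, hce, one_smul, zero_smul, sub_zero, sub_self]
  have hm₀D : -m₀ ∈ D := by
    obtain ⟨b, d, hb, -⟩ := S.H.exists_dual_basis
    have hsum : ∀ k, ∑ i, S.H.B (b i) k • S.P (d i) m₀ = S.P k m₀ := fun k => by
      have h := congrArg (S.P k) (S.decomp hb m₀)
      simpa only [map_sum, S.P_pure] using h
    have h2 : -m₀ = ∑ i, S.t (b i - S.H.B (b i) e • c - S.H.B (b i) c • e) (-S.P (d i) m₀) := by
      have e1 := congrArg (S.t c) ((hsum e).trans hm₀e)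
      have e2 := congrArg (S.t e) ((hsum c).trans hm₀c)
      simp only [map_sum, map_smul, map_zero] at e1 e2
      simp only [map_sub, map_smul, LinearMap.sub_apply, LinearMap.smul_apply, map_neg, smul_neg,
        Finset.sum_sub_distrib, Finset.sum_neg_distrib, e1, e2, neg_zero, sub_zero, S.decomp hb]
    rw [h2]
    refine D.sum_mem fun i _ => ?_
    obtain ⟨z, hz⟩ := S.K.exists_one hy0
    have := hG (show b i - S.H.B (b i) e • c - S.H.B (b i) c • e ∈ S.H.mid c e from S.H.mem_mid.2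
      ⟨by simp only [S.H.sub_left, S.H.smul_left, hc, hec]; ring,
       by simp only [S.H.sub_left, S.H.smul_left, hee, hce]; ring⟩) (S.K.dyad (-S.P (d i) m₀) z)
    rwa [Herm.dyad_apply, hz, one_smul] at this
  obtain ⟨h, hh, a₁, hha⟩ := hm₀D.2 v rfl
  obtain ⟨x, hx⟩ : ∃ x, x = S.P e v + a₁ := ⟨_, rfl⟩
  have hhv : h v = S.t e y + S.t c x := by rw [hha, hm₀, hx, map_add]; abel
  have hiso : σ (S.K.B y x) = -S.K.B y x := by
    have h1 : S.Ω.B (h v) (h v) = 0 := by rw [hM.iso _ hh, hv]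
    rw [hhv, S.Ω.add_left, S.Ω.add_right, S.Ω.add_right, S.ω_pure, S.ω_pure, S.ω_pure, S.ω_pure, hee, hc, hec,
      hce] at h1
    rw [S.K.conj]
    linear_combination h1
  obtain ⟨y', hy'⟩ := S.K.exists_one hy0
  have hy'' := S.K.eq_one_symm hy'
  set κ := -S.K.B y x with hκ
  have hκσ : σ κ = -κ := by rw [hκ, map_neg, hiso]
  set A : X →ₗ[F] X := -S.K.dyad x y' + S.K.dyad y' x + κ • S.K.dyad y' y' with hA
  have hAskew : S.K.Skew A := fun p q => by
    simp only [hA, LinearMap.add_apply, LinearMap.neg_apply, LinearMap.smul_apply, Herm.dyad_apply, S.K.add_left,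
      S.K.add_right, S.K.neg_left, S.K.neg_right, S.K.smul_left, S.K.smul_right, hκσ, S.K.conj]
    ring
  have hAy : A y = -x := by
    simp only [hA, LinearMap.add_apply, LinearMap.neg_apply, LinearMap.smul_apply, Herm.dyad_apply, hy', one_smul]
    rw [hκ]
    module
  set h' := S.up c hc A * h with hh'
  have hh'M : h' ∈ M := M.mul_mem (hall c hc0 hc hc A hAskew) hh
  have hh'v : h' v = S.t e y := by
    rw [hh', LinearEquiv.mul_apply, hhv, S.up_apply, map_add (S.P c), S.P_pure, S.P_pure, hec, hc, one_smul, zero_smul,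
      add_zero, hAy, map_neg]
    abel
  have he0 : e ≠ 0 := fun h0 => by rw [h0, S.H.zero_right] at hce; exact zero_ne_one hce
  have hey : S.Ω.B (S.t e y) (S.t e y) = 0 := by rw [S.ω_pure, hee, zero_mul]
  have h1 : S.Ω.tv l v hv = h'⁻¹ * S.Ω.tv l (S.t e y) hey * h' := by
    rw [mul_assoc, eq_inv_mul_iff_mul_eq]
    refine LinearEquiv.ext fun p => ?_
    show h' (S.Ω.tv l v hv p) = S.Ω.tv l (S.t e y) hey (h' p)
    rw [Herm.tv_apply, Herm.tv_apply, map_add, map_smul, map_smul, ← hh'v, hM.iso _ hh'M]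
  rw [h1]
  exact M.mul_mem (M.mul_mem (M.inv_mem hh'M) (hroot0 e he0 hee y l hey hl)) hh'M

end Sys

end Cfsg.Agent.H58.TensorUnit3
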